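import Mathlib

/-!
# A vanishing sum over linear maps

`sum_hom_eq_zero`: for nonzero modules `Z`, `U` killed by a maximal ideal with residue field of
size `Q`, the sum of `∏_{1 ≤ i < k} (1 - Q ^ i)`, `Q ^ k = |U| |ker φ|`, over all maps is zero.
-/

set_option autoImplicit false

namespace CfsgLib.Cuspidal

/-- The product `∏_{1 ≤ i < k} (1 - Q ^ i)`. -/
def gprod (Q k : ℕ) : ℤ := ∏ i ∈ Finset.Ico 1 k, (1 - (Q : ℤ) ^ i)

theorem gprod_succ (Q : ℕ) {k : ℕ} (hk : 1 ≤ k) : gprod Q (k + 1) = gprod Q k * (1 - (Q : ℤ) ^ k) :=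
  Finset.prod_Ico_succ_top hk _

theorem finrank_span_cons {K U : Type*} [Field K] [AddCommGroup U] [Module K U] [FiniteDimensional K U]
    {t : ℕ} (u : Fin t → U) (x : U) [Decidable (x ∈ Submodule.span K (Set.range u))] :
    Module.finrank K (Submodule.span K (Set.range (Fin.cons x u : Fin (t + 1) → U))) =
      Module.finrank K (Submodule.span K (Set.range u)) +
        if x ∈ Submodule.span K (Set.range u) then 0 else 1 := by
  rw [Fin.range_cons]
  by_cases hx : x ∈ Submodule.span K (Set.range u)
  · rw [if_pos hx, Submodule.span_insert_eq_span hx, add_zero]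
  · rw [if_neg hx, Submodule.span_insert]
    have h0 : x ≠ 0 := fun h => hx (h ▸ Submodule.zero_mem _)
    have hi : Submodule.span K {x} ⊓ Submodule.span K (Set.range u) = ⊥ := by
      rw [eq_bot_iff]
      rintro z ⟨hz1, hz2⟩
      obtain ⟨c, rfl⟩ := Submodule.mem_span_singleton.mp hz1
      rcases eq_or_ne c 0 with rfl | hc
      · simp
      · exact absurd (by simpa [smul_smul, hc] using Submodule.smul_mem _ c⁻¹ hz2) hx
    have h1 := Submodule.finrank_sup_add_finrank_inf_eq (Submodule.span K {x})
      (Submodule.span K (Set.range u))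
    rw [hi, finrank_bot, add_zero, finrank_span_singleton h0] at h1
    omega

open Classical in
theorem sum_tuple_eq_zero {K U : Type*} [Field K] [Fintype K] [AddCommGroup U] [Module K U] [Fintype U]
    (hU : 0 < Module.finrank K U) : ∀ t : ℕ, 0 < t →
    ∑ u : Fin t → U, gprod (Fintype.card K)
      (Module.finrank K U + (t - Module.finrank K (Submodule.span K (Set.range u)))) = 0 := by
  have : FiniteDimensional K U := Module.Finite.of_finite
  set r := Module.finrank K U with hr
  set Q := Fintype.card K with hQ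
  have key : ∀ t : ℕ,
      ∑ u : Fin (t + 1) → U, gprod Q (r + (t + 1 - Module.finrank K (Submodule.span K (Set.range u)))) =
        (Q : ℤ) ^ r * (1 - (Q : ℤ) ^ t) *
          ∑ u : Fin t → U, gprod Q (r + (t - Module.finrank K (Submodule.span K (Set.range u)))) := by
    intro t
    rw [← (Fin.consEquiv fun _ => U).sum_comp, Fintype.sum_prod_type, Finset.sum_comm, Finset.mul_sum]
    refine Finset.sum_congr rfl fun u _ => ?_
    set W := Submodule.span K (Set.range u) with hW
    set ρ := Module.finrank K W with hρ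
    have hρt : ρ ≤ t := (finrank_range_le_card (R := K) u).trans_eq (Fintype.card_fin t)
    have hρr : ρ ≤ r := Submodule.finrank_le W
    set κ := t - ρ with hκ
    have hval : ∀ x : U,
        gprod Q (r + (t + 1 - Module.finrank K
          (Submodule.span K (Set.range ((Fin.consEquiv fun _ => U) (x, u)))))) =
          if x ∈ W then gprod Q (r + κ + 1) else gprod Q (r + κ) := by
      intro x
      show gprod Q (r + (t + 1 - Module.finrank K
          (Submodule.span K (Set.range (Fin.cons x u : Fin (t + 1) → U))))) = _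
      rw [finrank_span_cons, ← hW, ← hρ]
      split_ifs <;> congr 1 <;> omega
    rw [Finset.sum_congr rfl fun x _ => hval x, Finset.sum_ite, Finset.sum_const, Finset.sum_const,
      gprod_succ Q (by omega : 1 ≤ r + κ)]
    have hW1 : (Finset.univ.filter fun x : U => x ∈ W).card = Q ^ ρ := by
      rw [← Fintype.card_subtype]
      exact Module.card_eq_pow_finrank (K := K) (V := W)
    have hW2 : (Q : ℤ) ^ ρ + ((Finset.univ.filter fun x : U => ¬ x ∈ W).card : ℤ) = (Q : ℤ) ^ r := by
      have h1 := Finset.card_filter_add_card_filter_not (s := (Finset.univ : Finset U)) (fun x => x ∈ W)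
      rw [hW1, Finset.card_univ, Module.card_eq_pow_finrank (K := K) (V := U), ← hr, ← hQ] at h1
      exact_mod_cast h1
    rw [hW1, nsmul_eq_mul, nsmul_eq_mul, eq_sub_of_add_eq' hW2, Nat.cast_pow]
    have he : (Q : ℤ) ^ ρ * (Q : ℤ) ^ (r + κ) = (Q : ℤ) ^ r * (Q : ℤ) ^ t := by
      rw [← pow_add, ← pow_add]; congr 1; omega
    linear_combination (-gprod Q (r + κ)) * he
  intro t ht
  induction t, ht using Nat.le_induction with
  | base => rw [key 0, pow_zero, sub_self, mul_zero, zero_mul]
  | succ t _ ih => rw [key t, ih, mul_zero]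

theorem sum_hom_eq_zero {R : Type*} [CommRing R] (I : Ideal R) [I.IsMaximal] [Finite (R ⧸ I)]
    {Z U : Type*} [AddCommGroup Z] [Module R Z] [Finite Z] [Nontrivial Z]
    [AddCommGroup U] [Module R U] [Finite U] [Nontrivial U]
    (hZ : Module.IsTorsionBySet R Z (I : Set R)) (hU : Module.IsTorsionBySet R U (I : Set R))
    [Fintype (Z →ₗ[R] U)] :
    ∑ φ : Z →ₗ[R] U, gprod (Nat.card (R ⧸ I))
      (Nat.log (Nat.card (R ⧸ I)) (Nat.card U * Nat.card (LinearMap.ker φ))) = 0 := by
  classical
  let _ : Field (R ⧸ I) := Ideal.Quotient.field I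
  let _ : Module (R ⧸ I) Z := hZ.module
  let _ : Module (R ⧸ I) U := hU.module
  have : IsScalarTower R (R ⧸ I) Z := hZ.isScalarTower
  have : IsScalarTower R (R ⧸ I) U := hU.isScalarTower
  have : FiniteDimensional (R ⧸ I) Z := Module.Finite.of_finite
  have : FiniteDimensional (R ⧸ I) U := Module.Finite.of_finite
  let _ : Fintype (R ⧸ I) := Fintype.ofFinite _
  let _ : Fintype U := Fintype.ofFinite _
  let _ : Fintype Z := Fintype.ofFinite _
  set Q := Nat.card (R ⧸ I) with hQ
  have hQK : Q = Fintype.card (R ⧸ I) := Nat.card_eq_fintype_card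
  have hQ1 : 1 < Q := by rw [hQK]; exact Fintype.one_lt_card
  set t := Module.finrank (R ⧸ I) Z with ht
  let b := Module.finBasis (R ⧸ I) Z
  let e : (Fin t → U) → (Z →ₗ[R] U) := fun u => (b.constr (R ⧸ I) u).restrictScalars R
  have he : Function.Bijective e := by
    refine ⟨fun u v h => ?_, fun φ => ?_⟩
    · exact (b.constr (R ⧸ I)).injective (LinearMap.restrictScalars_injective R h)
    · let ψ : Z →ₗ[R ⧸ I] U :=
        { toFun := φ, map_add' := φ.map_add
          map_smul' := fun c z => by
            obtain ⟨r, rfl⟩ := Ideal.Quotient.mk_surjective c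
            rw [RingHom.id_apply, hZ.mk_smul, hU.mk_smul, map_smul] }
      exact ⟨(b.constr (R ⧸ I)).symm ψ, by
        simp only [e, LinearEquiv.apply_symm_apply]; rfl⟩
  rw [← (Equiv.ofBijective e he).sum_comp]
  refine Eq.trans (Finset.sum_congr rfl fun u _ => ?_)
    (sum_tuple_eq_zero (K := R ⧸ I) (U := U) Module.finrank_pos t Module.finrank_pos)
  have hker : Nat.card (LinearMap.ker (e u)) = Q ^ (t - Module.finrank (R ⧸ I)
      (Submodule.span (R ⧸ I) (Set.range u))) := by
    have h1 : Nat.card (LinearMap.ker (e u)) = Nat.card (LinearMap.ker (b.constr (R ⧸ I) u)) :=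
      Nat.card_congr (Equiv.subtypeEquivRight fun z => by
        simp [e, LinearMap.mem_ker])
    have h2 := LinearMap.finrank_range_add_finrank_ker (b.constr (R ⧸ I) u)
    rw [Module.Basis.constr_range] at h2
    rw [h1, Module.natCard_eq_pow_finrank (K := R ⧸ I), ← hQ]
    congr 1
    omega
  show gprod Q (Nat.log Q (Nat.card U * Nat.card (LinearMap.ker (e u)))) = _
  rw [hker, Module.natCard_eq_pow_finrank (K := R ⧸ I) (V := U), ← hQ, ← pow_add, Nat.log_pow hQ1,
    ← hQK]

end CfsgLib.Cuspidal
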