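import Cfsg.Agent.Lib.Modular.Lifting
import Mathlib.LinearAlgebra.Eigenspace.Charpoly

/-!
# Lifted eigenvalue sums

* `rootSum`: the sum of the lifted roots of the characteristic polynomial;
* `rootSum_conj`, `rootSum_prodMap`, `rootSum_subsingleton`;
* `exists_gen_lift`: a generalized character agreeing with it on the elements killed by `N`.
-/

set_option autoImplicit false

noncomputable section

namespace CfsgLib.Cuspidal

open Cfsg CfsgLib.Blocks CfsgLib.Modular CfsgLib.Char Polynomial

attribute [local instance] CfsgLib.Blocks.resField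

variable (M : Ideal AlgInt) [M.IsMaximal] {F : Type*} [Field F] [Algebra F (Res M)]
  {W W' : Type*} [AddCommGroup W] [Module F W] [FiniteDimensional F W]
  [AddCommGroup W'] [Module F W'] [FiniteDimensional F W']

/-- The sum of the lifted roots of the characteristic polynomial. -/
def rootSum (N : ℕ) (a : Module.End F W) : ℂ :=
  ((a.charpoly.map (algebraMap F (Res M))).roots.map (liftRoot M N)).sum

theorem rootSum_conj (N : ℕ) (e : W ≃ₗ[F] W') (a : Module.End F W) :
    rootSum M N (e.conj a) = rootSum M N a := by
  rw [rootSum, rootSum, LinearEquiv.charpoly_conj]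

theorem rootSum_subsingleton [Subsingleton W] (N : ℕ) (a : Module.End F W) : rootSum M N a = 0 := by
  have h : a.charpoly = 1 :=
    (LinearMap.charpoly_monic a).natDegree_eq_zero.mp
      (by rw [LinearMap.charpoly_natDegree, Module.finrank_zero_of_subsingleton])
  simp [rootSum, h]

theorem rootSum_prodMap (N : ℕ) (a : Module.End F W) (b : Module.End F W') :
    rootSum M N (a.prodMap b) = rootSum M N a + rootSum M N b := by
  rw [rootSum, rootSum, rootSum, LinearMap.charpoly_prodMap, Polynomial.map_mul,
    roots_mul (((LinearMap.charpoly_monic a).map _).mul ((LinearMap.charpoly_monic b).map _)).ne_zero,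
    Multiset.map_add, Multiset.sum_add]

variable {M} {H : Type*} [Group H] [Fintype H] {p : ℕ}

/-- A generalized character agreeing with the lifted eigenvalue sum. -/
theorem exists_gen_lift (hM : IsPModular p M) {N : ℕ} (hN : ¬ p ∣ N) (ρ : H →* Module.End F W) :
    ∃ P : H → ℂ, IsGeneralizedCharacter H P ∧ ∀ a : H, a ^ N = 1 → P a = rootSum M N (ρ a) := by
  classical
  let b := Module.finBasis F W
  let σ : Representation (Res M) H (Fin (Module.finrank F W) → Res M) :=
    (Matrix.toLinAlgEquiv'.toRingEquiv.toRingHom.comp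
      ((algebraMap F (Res M)).mapMatrix.comp
        (LinearMap.toMatrixAlgEquiv b).toRingEquiv.toRingHom)).toMonoidHom.comp ρ
  have hσ : ∀ a : H, (σ a).charpoly = (ρ a).charpoly.map (algebraMap F (Res M)) := fun a => by
    show (Matrix.toLin' ((LinearMap.toMatrix b b (ρ a)).map (algebraMap F (Res M)))).charpoly = _
    rw [Matrix.charpoly_toLin', Matrix.charpoly_map, LinearMap.charpoly_toMatrix]
  refine ⟨fun g => brauerFun p M σ (piPart (p ^ (Nat.card H).factorization p) (pm p H) g), ?_, ?_⟩
  · obtain ⟨s, hs, hmem⟩ := exists_constituents (p := p) σ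
    have he : (fun g => brauerFun p M σ (piPart (p ^ (Nat.card H).factorization p) (pm p H) g)) =
        (s.map fun φ => fun g => φ (piPart (p ^ (Nat.card H).factorization p) (pm p H) g)).sum := by
      rw [← hs]
      clear hs hmem
      induction s using Multiset.induction with
      | empty => rfl
      | cons a t ih =>
        rw [Multiset.map_cons, Multiset.sum_cons, Multiset.sum_cons, ← ih]
        rfl
    rw [he]
    refine Multiset.sum_induction (IsGeneralizedCharacter H) _ (fun _ _ => isGen_add) isGen_zero ?_
    intro φ hφ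
    obtain ⟨ψ, hψ, rfl⟩ := Multiset.mem_map.mp hφ
    obtain ⟨j, τ, h1, h2, -⟩ := hmem ψ hψ
    exact isGen_extension hM (mem_ibrF.mpr ⟨j, τ, h1, h2⟩)
  · intro a ha
    have hord : ¬ p ∣ orderOf a := fun h => hN (h.trans (orderOf_dvd_of_pow_eq_one ha))
    have hpm := not_dvd_pm (G := H) hM.1
    show brauerFun p M σ _ = _
    rw [piPart_eq_self ((hM.1.coprime_iff_not_dvd.mpr hpm).pow_left _) (pow_pm_eq_one hM.1 hord),
      brauerFun_regular _ hord, hσ, rootSum]
    congr 1
    refine Multiset.map_congr rfl fun l hl => ?_
    rw [← hσ] at hl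
    have hlN : l ^ N = 1 := by
      obtain ⟨v, hv⟩ := ((Module.End.hasEigenvalue_iff_isRoot_charpoly (σ a) l).mpr
        (mem_roots'.mp hl).2).exists_hasEigenvector
      have h1 := hv.pow_apply N
      rw [← map_pow, ha, map_one, Module.End.one_apply] at h1
      refine sub_eq_zero.mp ((smul_eq_zero.mp ?_).resolve_right hv.2)
      rw [sub_smul, one_smul, ← h1, sub_self]
    have hmul : ¬ p ∣ pm p H * N := fun h => (hM.1.dvd_mul.mp h).elim hpm hN
    rw [liftRoot_of_dvd hM (dvd_mul_right _ N) hmul (pow_of_isRoot σ hM.1 hord hl),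
      liftRoot_of_dvd hM (dvd_mul_left N _) hmul hlN]

end CfsgLib.Cuspidal
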