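import Cfsg.Agent.Lib.Modular.Lift
import Mathlib

/-!
# Roots over a finite field and lifted roots of unity

* `pow_card_pow_eq_iff`, `natDegree_minpoly_and_roots`: conjugates over a finite field;
* `liftRoot_mul`, `liftRoot_pow`, `sum_liftRoot`: the lift is a character, with orthogonality;
* `exists_coprime_lift`: residues prime to `N` lift prime to a multiple.
-/

set_option autoImplicit false

noncomputable section

namespace CfsgLib.Cuspidal

open Polynomial

section Field

variable {F Ω : Type*} [Field F] [Fintype F] [Field Ω] [Algebra F Ω]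

theorem aeval_pow_card_pow (f : F[X]) (x : Ω) (i : ℕ) :
    aeval (x ^ Fintype.card F ^ i) f = aeval x f ^ Fintype.card F ^ i := by
  induction i with
  | zero => simp
  | succ i ih =>
    rw [pow_succ, pow_mul, ← expand_aeval, FiniteField.expand_card, map_pow, ih, ← pow_mul]

theorem pow_card_pow_eq_iff {f : F[X]} (hf : Irreducible f) (hm : f.Monic) {x : Ω}
    (hx : aeval x f = 0) (i : ℕ) : x ^ Fintype.card F ^ i = x ↔ f.natDegree ∣ i := by
  rw [hf.natDegree_dvd_iff_dvd_X_pow_card_pow_sub_X, minpoly.eq_of_irreducible_of_monic hf hx hm,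
    minpoly.dvd_iff, map_sub, map_pow, aeval_X, sub_eq_zero, Nat.card_eq_fintype_card]

theorem natDegree_minpoly_and_roots {y : Ω} {d : ℕ} (hd : 0 < d)
    (hyd : y ^ Fintype.card F ^ d = y) (hy : ∀ i, 0 < i → i < d → y ^ Fintype.card F ^ i ≠ y) :
    IsIntegral F y ∧ (minpoly F y).natDegree = d ∧
      ((minpoly F y).map (algebraMap F Ω)).roots =
        (Multiset.range d).map fun i => y ^ Fintype.card F ^ i := by
  classical
  set q := Fintype.card F with hq
  have hq1 : 1 < q := Fintype.one_lt_card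
  have hP : (X ^ q ^ d - X : F[X]) ≠ 0 := FiniteField.X_pow_card_pow_sub_X_ne_zero F hd.ne' hq1
  have hz : aeval y (X ^ q ^ d - X : F[X]) = 0 := by
    rw [map_sub, map_pow, aeval_X, hyd, sub_self]
  have hint : IsIntegral F y := (IsAlgebraic.isIntegral ⟨_, hP, hz⟩)
  set g := minpoly F y with hg
  have hirr : Irreducible g := minpoly.irreducible hint
  have hmon : g.Monic := minpoly.monic hint
  have hroot : ∀ i, aeval (y ^ q ^ i) g = 0 := fun i => by
    rw [hq, aeval_pow_card_pow, minpoly.aeval, zero_pow]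
    exact pow_ne_zero i (Fintype.card_ne_zero)
  have hle : g.natDegree ∣ d := (pow_card_pow_eq_iff hirr hmon (minpoly.aeval F y) d).mp hyd
  have hdeg : g.natDegree = d := by
    by_contra hne
    have hlt : g.natDegree < d := lt_of_le_of_ne (Nat.le_of_dvd hd hle) hne
    exact hy _ hirr.natDegree_pos hlt
      ((pow_card_pow_eq_iff hirr hmon (minpoly.aeval F y) _).mpr dvd_rfl)
  refine ⟨hint, hdeg, (Multiset.eq_of_le_of_card_le ?_ ?_).symm⟩
  · have hne : ∀ i j, i < j → j < d → y ^ q ^ i ≠ y ^ q ^ j := by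
      intro i j hij hj e
      refine hy (d - (j - i)) (by omega) (by omega) ?_
      have h2 := congrArg (fun z : Ω => z ^ q ^ (d - j)) e
      simp only [← pow_mul, ← pow_add] at h2
      rwa [show j + (d - j) = d by omega, hyd, show i + (d - j) = d - (j - i) by omega] at h2
    refine Multiset.le_iff_subset ?_ |>.mpr ?_
    · refine (Multiset.nodup_range d).map_on fun i hi j hj e => ?_
      rw [Multiset.mem_range] at hi hj
      rcases lt_trichotomy i j with h | h | h
      · exact absurd e (hne i j h hj)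
      · exact h
      · exact absurd e.symm (hne j i h hi)
    · intro z hz
      obtain ⟨i, -, rfl⟩ := Multiset.mem_map.mp hz
      rw [mem_roots_map hmon.ne_zero, ← aeval_def]
      exact hroot i
  · refine (card_roots' _).trans ?_
    rw [natDegree_map, hdeg, Multiset.card_map, Multiset.card_range]

end Field

section Lift

open Cfsg CfsgLib.Blocks CfsgLib.Modular

attribute [local instance] CfsgLib.Blocks.resField

variable {M : Ideal AlgInt} [M.IsMaximal] {p N : ℕ}

theorem liftRoot_mul (hM : IsPModular p M) (hN : ¬ p ∣ N) {a b : Res M} (ha : a ^ N = 1)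
    (hb : b ^ N = 1) : liftRoot M N (a * b) = liftRoot M N a * liftRoot M N b := by
  have hN0 : 0 < N := Nat.pos_of_ne_zero fun h0 => hN (h0 ▸ dvd_zero p)
  obtain ⟨z, hz, rfl⟩ := exists_root_resI hM hN ha
  obtain ⟨w, hw, rfl⟩ := exists_root_resI hM hN hb
  have h1 := resI_coe ((⟨z, root_mem_locRing (M := M) hN0 hz⟩ : locRing M) *
    ⟨w, root_mem_locRing (M := M) hN0 hw⟩)
  rw [map_mul, ← resI_coe, ← resI_coe] at h1
  rw [← h1, liftRoot_resI hM hN hz, liftRoot_resI hM hN hw]
  exact liftRoot_resI hM hN (by rw [Subring.coe_mul, mul_pow, hz, hw, one_mul])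

theorem liftRoot_one (hM : IsPModular p M) (hN : ¬ p ∣ N) : liftRoot M N (1 : Res M) = 1 := by
  have h1 : resI M (1 : ℂ) = 1 := by rw [← OneMemClass.coe_one (locRing M), resI_coe, map_one]
  rw [← h1]
  exact liftRoot_resI hM hN (one_pow _)

theorem liftRoot_pow (hM : IsPModular p M) (hN : ¬ p ∣ N) {a : Res M} (ha : a ^ N = 1) (j : ℕ) :
    liftRoot M N (a ^ j) = liftRoot M N a ^ j := by
  induction j with
  | zero => simp [liftRoot_one hM hN]
  | succ j ih =>
    rw [pow_succ, pow_succ, liftRoot_mul hM hN (by rw [← pow_mul, mul_comm, pow_mul, ha, one_pow]) ha,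
      ih]

theorem conj_of_pow_eq_one {m : ℕ} (hm : m ≠ 0) {z : ℂ} (hz : z ^ m = 1) :
    (starRingEnd ℂ) z = z⁻¹ := by
  exact (Complex.inv_eq_conj (norm_eq_one_of_pow_eq_one' hm hz)).symm
where
  norm_eq_one_of_pow_eq_one' {m : ℕ} (hm : m ≠ 0) {z : ℂ} (hz : z ^ m = 1) : ‖z‖ = 1 :=
    (pow_eq_one_iff_of_nonneg (norm_nonneg z) hm).mp (by rw [← norm_pow, hz, norm_one])

open Classical in
theorem sum_liftRoot (hM : IsPModular p M) (hN : ¬ p ∣ N) (a b : ℕ) :
    ∑ x ∈ nthRootsFinset N (1 : Res M), liftRoot M N x ^ a * (starRingEnd ℂ) (liftRoot M N x ^ b) =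
      if a ≡ b [MOD N] then (N : ℂ) else 0 := by
  have hN0 : 0 < N := Nat.pos_of_ne_zero fun h0 => hN (h0 ▸ dvd_zero p)
  rw [Finset.sum_bij' (t := nthRootsFinset N (1 : ℂ)) (g := fun z => z ^ a * (starRingEnd ℂ) (z ^ b))
    (fun x _ => liftRoot M N x) (fun z _ => resI M z)]
  rotate_left
  · intro x hx
    rw [mem_nthRootsFinset hN0] at hx ⊢
    exact (liftRoot_spec hM hN hx).1
  · intro z hz
    rw [mem_nthRootsFinset hN0] at hz ⊢
    exact resI_pow hN0 hz
  · intro x hx
    exact (liftRoot_spec hM hN ((mem_nthRootsFinset hN0 1).mp hx)).2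
  · intro z hz
    exact liftRoot_resI hM hN ((mem_nthRootsFinset hN0 1).mp hz)
  · intro x _
    rfl
  have hζ := Complex.isPrimitiveRoot_exp N hN0.ne'
  set ζ := Complex.exp (2 * Real.pi * Complex.I / N) with hζdef
  have hval : ∀ z : ℂ, z ^ N = 1 → z ^ a * (starRingEnd ℂ) (z ^ b) = z ^ a / z ^ b := fun z hz => by
    rw [map_pow, conj_of_pow_eq_one hN0.ne' hz, inv_pow, div_eq_mul_inv]
  rw [Finset.sum_congr rfl fun z hz => hval z ((mem_nthRootsFinset hN0 1).mp hz)]
  have hne0 : ∀ z : ℂ, z ^ N = 1 → z ≠ 0 := fun z hz h => by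
    rw [h, zero_pow hN0.ne'] at hz
    exact zero_ne_one hz
  by_cases h : a ≡ b [MOD N]
  · rw [if_pos h, Finset.sum_congr rfl (g := fun _ => (1 : ℂ)) fun z hz => ?_, Finset.sum_const,
      hζ.card_nthRootsFinset, nsmul_eq_mul, mul_one]
    rw [mem_nthRootsFinset hN0] at hz
    rw [pow_eq_pow_mod a hz, pow_eq_pow_mod b hz, show a % N = b % N from h]
    exact div_self (pow_ne_zero _ (hne0 z hz))
  · rw [if_neg h]
    have hζ1 : ζ ^ N = 1 := hζ.pow_eq_one
    have hmul : ∀ z ∈ nthRootsFinset N (1 : ℂ), ζ * z ∈ nthRootsFinset N (1 : ℂ) := fun z hz => by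
      rw [mem_nthRootsFinset hN0] at hz ⊢
      rw [mul_pow, hζ1, hz, one_mul]
    have hS : ∑ z ∈ nthRootsFinset N (1 : ℂ), z ^ a / z ^ b =
        (ζ ^ a / ζ ^ b) * ∑ z ∈ nthRootsFinset N (1 : ℂ), z ^ a / z ^ b := by
      rw [Finset.mul_sum]
      refine (Finset.sum_bij' (fun z _ => ζ * z) (fun z _ => ζ⁻¹ * z) (fun z hz => hmul z hz)
        ?_ (fun z _ => ?_) (fun z _ => ?_) fun z _ => ?_).symm
      · intro z hz
        rw [mem_nthRootsFinset hN0] at hz ⊢
        rw [mul_pow, inv_pow, hζ1, inv_one, one_mul, hz]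
      · rw [inv_mul_cancel_left₀ (hne0 ζ hζ1)]
      · rw [mul_inv_cancel_left₀ (hne0 ζ hζ1)]
      · rw [mul_pow, mul_pow, mul_div_mul_comm]
    have hc : ζ ^ a / ζ ^ b ≠ 1 := by
      intro e
      apply h
      rw [div_eq_one_iff_eq (pow_ne_zero _ (hne0 ζ hζ1))] at e
      rw [pow_eq_pow_mod a hζ1, pow_eq_pow_mod b hζ1] at e
      exact hζ.pow_inj (Nat.mod_lt a hN0) (Nat.mod_lt b hN0) e
    have h2 : (ζ ^ a / ζ ^ b - 1) * ∑ z ∈ nthRootsFinset N (1 : ℂ), z ^ a / z ^ b = 0 := by
      rw [sub_mul, one_mul, ← hS, sub_self]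
    exact (mul_eq_zero.mp h2).resolve_left (sub_ne_zero.mpr hc)

end Lift

/-- Residues prime to `N` lift to residues prime to a given number. -/
theorem exists_coprime_lift {N r G : ℕ} (hN : N ≠ 0) (hG : G ≠ 0) (hr : r.Coprime N) :
    ∃ m : ℕ, m.Coprime G ∧ m ≡ r [MOD N] := by
  have : NeZero (N * G) := ⟨Nat.mul_ne_zero hN hG⟩
  obtain ⟨u, hu⟩ := ZMod.unitsMap_surjective (dvd_mul_right N G) (ZMod.unitOfCoprime r hr)
  refine ⟨(u : ZMod (N * G)).val, (ZMod.val_coe_unit_coprime u).coprime_dvd_right (dvd_mul_left G N),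
    ?_⟩
  rw [← ZMod.natCast_eq_natCast_iff]
  have h := congrArg (fun v : (ZMod N)ˣ => (v : ZMod N)) hu
  simp only [ZMod.unitsMap_def, Units.coe_map, ZMod.coe_unitOfCoprime] at h
  rw [← h]
  simp [ZMod.natCast_val]

end CfsgLib.Cuspidal
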