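import Cfsg.Agent.Lib.Cuspidal.Endo
import Cfsg.Agent.Lib.Cuspidal.Lift
import Cfsg.Agent.Lib.Cuspidal.Roots
import Cfsg.Agent.Lib.Cuspidal.Hom

/-!
# The cuspidal class function on endomorphisms

* `chiE`: `(-1) ^ dim * ∑ muG φ U * (lifted eigenvalue sum of φ ^ m on U)` over invariant `U`;
* `chiE_not_prim`, `chiE_prim`, `weight_top`: its values.
-/

set_option autoImplicit false

noncomputable section

namespace CfsgLib.Cuspidal

open Cfsg CfsgLib.Blocks CfsgLib.Modular Polynomial Module

attribute [local instance] CfsgLib.Blocks.resField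

variable (M : Ideal AlgInt) [M.IsMaximal] {F V : Type*} [Field F] [Algebra F (Res M)]
  [AddCommGroup V] [Module F V] [Finite V] (N m : ℕ) (φ ψ : Module.End F V)

omit [Finite V] in
theorem pow_invariant {U : Submodule F V} (h : U ≤ U.comap φ) : U ≤ U.comap (φ ^ m) := fun v hv => by
  rw [Submodule.mem_comap, ← aeval_X (R := F) φ, ← map_pow]
  exact aeval_mem φ h _ hv

open Classical in
/-- The lifted eigenvalue sum on a subspace. -/
def rs (U : Submodule F V) : ℂ := if h : U ≤ U.comap φ then rootSum M N (φ.restrict h) else 0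

theorem rs_eq {U : Submodule F V} (h : U ≤ U.comap φ) : rs M N φ U = rootSum M N (φ.restrict h) :=
  dif_pos h

theorem rs_congr {U : Submodule F V} (h : U ≤ U.comap φ) (hv : ∀ v ∈ U, φ v = ψ v) :
    rs M N φ U = rs M N ψ U := by
  have h' : U ≤ U.comap ψ := fun v hv' => by rw [Submodule.mem_comap, ← hv v hv']; exact h hv'
  rw [rs_eq M N φ h, rs_eq M N ψ h']
  congr 1
  exact LinearMap.ext fun v => Subtype.ext (hv v v.2)

theorem rs_conj (e : V ≃ₗ[F] V) (U : Submodule F V) :
    rs M N (e.conj φ) (U.map (e : V →ₗ[F] V)) = rs M N φ U := by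
  have : FiniteDimensional F V := Module.Finite.of_finite
  by_cases h : U ≤ U.comap φ
  · rw [rs_eq M N φ h, rs_eq M N _ ((invariant_conj_iff φ e U).mpr h),
      ← rootSum_conj M N (e.submoduleMap U) (φ.restrict h)]
    congr 1
  · rw [rs, rs, dif_neg h, dif_neg fun h' => h ((invariant_conj_iff φ e U).mp h')]

theorem rs_bot : rs M N φ ⊥ = 0 := by
  rw [rs_eq M N φ bot_le]
  exact rootSum_subsingleton M N _

theorem rs_top : rs M N φ ⊤ = rootSum M N φ := by
  have : FiniteDimensional F V := Module.Finite.of_finite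
  rw [rs_eq M N φ (fun v _ => Submodule.mem_top), ← rootSum_conj M N Submodule.topEquiv.symm φ]
  congr 1

theorem rs_sup {A B : Submodule F V} (hd : Disjoint A B) (hA : A ≤ A.comap φ) (hB : B ≤ B.comap φ) :
    rs M N φ (A ⊔ B) = rs M N φ A + rs M N φ B := by
  have : FiniteDimensional F V := Module.Finite.of_finite
  have hAB : A ⊔ B ≤ (A ⊔ B).comap φ := sup_le (hA.trans (Submodule.comap_mono le_sup_left))
    (hB.trans (Submodule.comap_mono le_sup_right))
  let f : (A × B) →ₗ[F] (A ⊔ B : Submodule F V) :=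
    (Submodule.inclusion le_sup_left).coprod (Submodule.inclusion le_sup_right)
  have hf : Function.Bijective f := by
    refine ⟨(injective_iff_map_eq_zero f).mpr fun z hz => ?_, fun z => ?_⟩
    · have h1 : (z.1 : V) + (z.2 : V) = 0 := congrArg Subtype.val hz
      have h2 : (z.1 : V) = 0 := Submodule.disjoint_def.mp hd _ z.1.2
        (by rw [eq_neg_of_add_eq_zero_left h1]; exact B.neg_mem z.2.2)
      rw [h2, zero_add] at h1
      exact Prod.ext (Subtype.ext h2) (Subtype.ext h1)
    · obtain ⟨a, ha, b, hb, e⟩ := Submodule.mem_sup.mp z.2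
      exact ⟨(⟨a, ha⟩, ⟨b, hb⟩), Subtype.ext e⟩
  rw [rs_eq M N φ hA, rs_eq M N φ hB, rs_eq M N φ hAB, ← rootSum_prodMap,
    ← rootSum_conj M N (LinearEquiv.ofBijective f hf)]
  congr 1
  refine LinearMap.ext fun z => ?_
  obtain ⟨w, rfl⟩ := (LinearEquiv.ofBijective f hf).surjective z
  rw [LinearEquiv.conj_apply_apply, LinearEquiv.symm_apply_apply]
  refine Subtype.ext ?_
  show φ ((w.1 : V) + (w.2 : V)) = φ w.1 + φ w.2
  rw [map_add]

/-- The weight of a submodule of `AEval' φ`. -/
def wP (S : Submodule F[X] (AEval' φ)) : ℂ := rs M N (φ ^ m) (toF φ S)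

omit [M.IsMaximal] [Algebra F (Res M)] [Finite V] in
theorem nonempty_equiv_atoms {L L' : Submodule F[X] (AEval' φ)} (hL : IsAtom L) (hL' : IsAtom L')
    (h : L.annihilator = L'.annihilator) : Nonempty (L ≃ₗ[F[X]] L') := by
  have key : ∀ A : Submodule F[X] (AEval' φ), IsAtom A →
      Nonempty ((F[X] ⧸ A.annihilator) ≃ₗ[F[X]] A) := by
    intro A hA
    obtain ⟨l, hl, h0⟩ := exists_ne_zero_mem hA.1
    let g : F[X] →ₗ[F[X]] A := LinearMap.toSpanSingleton F[X] A ⟨l, hl⟩
    have hker : A.annihilator = LinearMap.ker g := by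
      ext r
      rw [LinearMap.mem_ker, mem_ann_iff hA hl h0]
      exact (Subtype.ext_iff (a1 := g r) (a2 := 0)).symm
    exact ⟨(Submodule.quotEquivOfEq _ _ hker).trans (g.quotKerEquivOfSurjective fun z => by
      obtain ⟨t, ht⟩ := exists_smul_eq hA hl h0 z.2
      exact ⟨t, Subtype.ext ht⟩)⟩
  obtain ⟨a⟩ := key L hL
  obtain ⟨b⟩ := key L' hL'
  exact ⟨a.symm.trans ((Submodule.quotEquivOfEq _ _ h).trans b)⟩

theorem isWeight_wP : IsWeight (wP M N m φ) := by
  have : FiniteDimensional F V := Module.Finite.of_finite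
  refine ⟨by rw [wP, toF_bot, rs_bot], fun A L _ _ hd => ?_, fun L L' hL hL' h => ?_⟩
  · rw [wP, toF_sup]
    exact rs_sup M N _ (toF_disjoint φ hd) (pow_invariant m φ (toF_invariant φ A))
      (pow_invariant m φ (toF_invariant φ L))
  · obtain ⟨g⟩ := nonempty_equiv_atoms φ hL hL' h
    let eL : ∀ A : Submodule F[X] (AEval' φ), toF φ A ≃ₗ[F] A := fun A =>
      { toFun := fun v => ⟨AEval'.of φ v.1, v.2⟩
        invFun := fun z => ⟨(AEval'.of φ).symm z.1, by
          rw [mem_toF, LinearEquiv.apply_symm_apply]; exact z.2⟩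
        left_inv := fun v => Subtype.ext ((AEval'.of φ).symm_apply_apply v.1)
        right_inv := fun z => Subtype.ext ((AEval'.of φ).apply_symm_apply z.1)
        map_add' := fun _ _ => Subtype.ext (map_add (AEval'.of φ) _ _)
        map_smul' := fun c v => Subtype.ext (map_smul (AEval'.of φ) c v.1) }
    let e : toF φ L ≃ₗ[F] toF φ L' :=
      (eL L).trans ((g.restrictScalars F).trans (eL L').symm)
    rw [wP, wP, rs_eq M N _ (pow_invariant m φ (toF_invariant φ L)),
      rs_eq M N _ (pow_invariant m φ (toF_invariant φ L')), ← rootSum_conj M N e]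
    congr 1
    refine LinearMap.ext fun z => ?_
    obtain ⟨a, rfl⟩ := e.surjective z
    rw [LinearEquiv.conj_apply_apply, LinearEquiv.symm_apply_apply]
    have e1 : ∀ (A : Submodule F[X] (AEval' φ)) (v : toF φ A),
        eL A ((φ ^ m).restrict (p := toF φ A) (q := toF φ A)
          (pow_invariant m φ (toF_invariant φ A)) v) = (X ^ m : F[X]) • eL A v := fun A v => by
      refine Subtype.ext ?_
      show AEval'.of φ ((φ ^ m) v.1) = (X ^ m : F[X]) • AEval'.of φ v.1
      rw [smul_of_eq, map_pow, aeval_X]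
    apply (eL L').injective
    rw [e1 L']
    simp only [e, LinearEquiv.trans_apply, LinearEquiv.apply_symm_apply,
      LinearEquiv.restrictScalars_apply]
    rw [e1 L, map_smul]

/-- The weight of an invariant subspace. -/
def wgt (U : Submodule F V) : ℂ := (muG φ U : ℂ) * rs M N (φ ^ m) U

/-- The cuspidal class function. -/
def chiE : ℂ := (-1) ^ finrank F V * ∑ U ∈ invSet φ, wgt M N m φ U

omit [Finite V] in
theorem hsum_soc [Fintype (Submodule F[X] (AEval' φ))] (P : Submodule F[X] (AEval' φ) → ℂ)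
    (S : Submodule F[X] (AEval' φ)) : hsum P S = hsum P (soc S) := by
  classical
  refine (Finset.sum_subset (fun U hU => ?_) fun U hU hn => ?_).symm
  · exact Finset.mem_filter.mpr ⟨Finset.mem_univ _, (Finset.mem_filter.mp hU).2.trans (soc_le S)⟩
  · simp only [Finset.mem_filter, Finset.mem_univ, true_and] at hU hn
    rw [mu_eq_zero (a := U) fun e => hn (e ▸ soc_mono hU), Int.cast_zero, zero_mul]

theorem chiE_eq_hsum [Fintype (Submodule F[X] (AEval' φ))] :
    chiE M N m φ = (-1) ^ finrank F V * hsum (wP M N m φ) (soc ⊤) := by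
  classical
  rw [← hsum_soc φ, chiE, invSet_eq φ, Finset.sum_map, hsum]
  congr 1
  refine Finset.sum_congr (by simp) fun S _ => ?_
  simp only [wgt, wP, Function.Embedding.coeFn_mk, muG_toF]

theorem chiE_not_prim [Nontrivial V]
    (h : ∀ f : F[X], Irreducible f → f.Monic → ¬ IsPrim φ f) : chiE M N m φ = 0 := by
  have := Fintype.ofFinite (Submodule F[X] (AEval' φ))
  obtain ⟨L, L', hL, hL', hne⟩ := exists_two_types φ h
  rw [chiE_eq_hsum, hsum_mixed (isWeight_wP M N m φ) _ (soc_idem ⊤)
    ⟨L, L', hL, hL', le_soc hL le_top, le_soc hL' le_top, hne⟩, mul_zero]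

variable [Fintype F]

/-- The lifted orbit sum. -/
def orbSum (F : Type*) [Fintype F] (y : Res M) (d : ℕ) : ℂ :=
  ∑ i ∈ Finset.range d, liftRoot M N (y ^ Fintype.card F ^ i)

theorem root_pow_eq_one {f : F[X]} (hf : Irreducible f) (hfm : f.Monic) {x : Res M}
    (hx : aeval x f = 0) (hx0 : x ≠ 0) : x ^ (Fintype.card F ^ f.natDegree - 1) = 1 := by
  have h1 := (pow_card_pow_eq_iff hf hfm hx f.natDegree).mpr dvd_rfl
  have hpos : 0 < Fintype.card F ^ f.natDegree := pow_pos Fintype.card_pos _
  refine mul_right_cancel₀ hx0 ?_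
  rw [← pow_succ, Nat.sub_add_cancel hpos, h1, one_mul]

omit [Finite V] in
theorem card_atom_eq {L : Submodule F[X] (AEval' φ)} (hL : IsAtom L) {f : F[X]} (hfm : f.Monic)
    (hann : L.annihilator = Ideal.span {f}) : Nat.card L = Fintype.card F ^ f.natDegree := by
  rw [card_atom hL, hann, card_quotient_span f hfm, Nat.card_eq_fintype_card]

theorem wP_atom {L : Submodule F[X] (AEval' φ)} (hL : IsAtom L) {f : F[X]} (hf : Irreducible f)
    (hfm : f.Monic) (hann : L.annihilator = Ideal.span {f}) {x : Res M} (hx : aeval x f = 0)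
    (hx0 : x ≠ 0) (hco : m.Coprime (Fintype.card F ^ f.natDegree - 1)) :
    wP M N m φ L = orbSum M N F (x ^ m) f.natDegree := by
  classical
  have : FiniteDimensional F V := Module.Finite.of_finite
  set q := Fintype.card F with hq
  set d := f.natDegree with hd
  have hx1 := root_pow_eq_one M hf hfm hx hx0
  have hiff := pow_card_pow_eq_iff hf hfm hx
  have hxd : (x ^ m) ^ q ^ d = x ^ m := by rw [← pow_mul, mul_comm, pow_mul, (hiff d).mpr dvd_rfl]
  have hxi : ∀ i, 0 < i → i < d → (x ^ m) ^ q ^ i ≠ x ^ m := by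
    intro i hi hid e
    have h2 : x ^ q ^ i / x = 1 := by
      have e1 : (x ^ q ^ i / x) ^ m = 1 := by
        rw [div_pow, ← pow_mul, mul_comm, pow_mul, e, div_self (pow_ne_zero m hx0)]
      have e2 : (x ^ q ^ i / x) ^ (q ^ d - 1) = 1 := by
        rw [div_pow, ← pow_mul, mul_comm, pow_mul, hx1, one_pow, div_one]
      have e3 := pow_gcd_eq_one.mpr ⟨e1, e2⟩
      rwa [hco, pow_one] at e3
    exact absurd (Nat.le_of_dvd hi ((hiff i).mp ((div_eq_one_iff_eq hx0).mp h2))) (not_le.mpr hid)
  obtain ⟨hint, hdeg, hroots⟩ := natDegree_minpoly_and_roots hf.natDegree_pos hxd hxi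
  set g := minpoly F (x ^ m) with hg
  have hdvd : f ∣ g.comp (X ^ m) := by
    rw [minpoly.eq_of_irreducible_of_monic hf hx hfm, minpoly.dvd_iff, aeval_comp, map_pow, aeval_X]
    exact minpoly.aeval F _
  have hinv := pow_invariant m φ (toF_invariant φ L)
  set a : Module.End F (toF φ L) := (φ ^ m).restrict (p := toF φ L) (q := toF φ L) hinv with ha
  have hkill : aeval a g = 0 := by
    refine LinearMap.ext fun v => Subtype.ext ?_
    have h1 : ∀ p : F[X], ((aeval a p v : toF φ L) : V) = aeval (φ ^ m) p v.1 := by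
      intro p
      induction p using Polynomial.induction_on' generalizing v with
      | add p r hp hr => rw [map_add, map_add, LinearMap.add_apply, LinearMap.add_apply,
          Submodule.coe_add, hp, hr]
      | monomial k c =>
        rw [aeval_monomial, aeval_monomial, Module.End.mul_apply, Module.End.mul_apply,
          Module.algebraMap_end_apply, Module.algebraMap_end_apply, Submodule.coe_smul,
          Module.End.pow_restrict, LinearMap.restrict_apply]
    rw [h1, LinearMap.zero_apply, ZeroMemClass.coe_zero]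
    obtain ⟨c, hc⟩ := hdvd
    have h2 : g.comp (X ^ m) ∈ L.annihilator := by
      rw [hann, hc]; exact Ideal.mul_mem_right c _ (Ideal.mem_span_singleton_self f)
    have h3 := Submodule.mem_annihilator.mp h2 _ ((mem_toF φ).mp v.2)
    rw [smul_of_eq, aeval_comp, map_pow, aeval_X] at h3
    exact (LinearEquiv.map_eq_zero_iff _).mp h3
  have hrank : finrank F (toF φ L) = d := by
    have h1 := card_atom_eq φ hL hfm hann
    rw [← card_toF, Module.natCard_eq_pow_finrank (K := F), Nat.card_eq_fintype_card] at h1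
    exact Nat.pow_right_injective Fintype.one_lt_card h1
  have : Nontrivial (toF φ L) := Module.nontrivial_of_finrank_pos (R := F) (hrank ▸ hf.natDegree_pos)
  have hinta : IsIntegral F a := Algebra.IsIntegral.isIntegral a
  have hmin : minpoly F a = g :=
    eq_of_monic_of_associated (minpoly.monic hinta) (minpoly.monic hint)
      (((minpoly.irreducible hint).isUnit_or_isUnit (minpoly.dvd F a hkill).choose_spec).elim
        (fun hu => absurd hu (minpoly.not_isUnit F a)) fun hu =>
        ⟨hu.unit, by rw [IsUnit.unit_spec]; exact (minpoly.dvd F a hkill).choose_spec.symm⟩)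
  have hchar : a.charpoly = g :=
    eq_of_monic_of_dvd_of_natDegree_le (minpoly.monic hint) (LinearMap.charpoly_monic a)
      (hmin ▸ LinearMap.minpoly_dvd_charpoly a)
      (by rw [LinearMap.charpoly_natDegree, hrank, hdeg])
  rw [wP, rs_eq M N _ hinv, rootSum, hchar, hroots, Multiset.map_map]
  rfl

theorem chiE_prim [Nontrivial V] {f : F[X]} (hf : Irreducible f) (hfm : f.Monic) (hp : IsPrim φ f)
    {x : Res M} (hx : aeval x f = 0) (hx0 : x ≠ 0)
    (hco : m.Coprime (Fintype.card F ^ f.natDegree - 1)) :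
    chiE M N m φ = -(-1) ^ finrank F V * orbSum M N F (x ^ m) f.natDegree *
      (gprod (Fintype.card F ^ f.natDegree)
        (Nat.log (Fintype.card F ^ f.natDegree) (Nat.card (LinearMap.ker (aeval φ f)))) : ℂ) := by
  have := Fintype.ofFinite (Submodule F[X] (AEval' φ))
  have hQ1 : 1 < Fintype.card F ^ f.natDegree := Nat.one_lt_pow hf.natDegree_pos.ne' Fintype.one_lt_card
  obtain ⟨k, hk1, hk0, -, -, hk4⟩ := iso_formulas (isWeight_wP M N m φ) (soc ⊤) (soc_idem ⊤)
    (fun L hL _ => ⟨ann_eq_of_prim φ hf hp hL,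
      wP_atom M N m φ hL hf hfm (ann_eq_of_prim φ hf hp hL) hx hx0 hco⟩)
    (fun L hL _ => card_atom_eq φ hL hfm (ann_eq_of_prim φ hf hp hL))
  have hne : k ≠ 0 := fun h => by
    have : Nontrivial (AEval' φ) := (AEval'.of φ).toEquiv.nontrivial_congr.mp ‹_›
    exact soc_ne_bot (top_ne_bot (α := Submodule F[X] (AEval' φ))) (hk0 h)
  rw [chiE_eq_hsum, hk4 hne, ← toF_soc_top φ hf hp, card_toF, hk1, Nat.log_pow hQ1, gprod]
  push_cast
  ring

theorem weight_top [Nontrivial V] {f : F[X]} (hf : Irreducible f) (hfm : f.Monic) (h0 : aeval φ f = 0)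
    {x : Res M} (hx : aeval x f = 0) (hx0 : x ≠ 0)
    (hco : m.Coprime (Fintype.card F ^ f.natDegree - 1)) :
    ∃ k : ℕ, k ≠ 0 ∧ Nat.card V = (Fintype.card F ^ f.natDegree) ^ k ∧
      wgt M N m φ ⊤ = (-1) ^ k * (Fintype.card F ^ f.natDegree : ℂ) ^ k.choose 2 *
        (k * orbSum M N F (x ^ m) f.natDegree) := by
  have := Fintype.ofFinite (Submodule F[X] (AEval' φ))
  have hp : IsPrim φ f := ⟨1, by rw [h0, pow_one]⟩
  have hs : soc (⊤ : Submodule F[X] (AEval' φ)) = ⊤ :=
    soc_of_killed φ hf fun v _ => by rw [h0, LinearMap.zero_apply]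
  obtain ⟨k, hk1, hk0, hk2, hk3, -⟩ := iso_formulas (isWeight_wP M N m φ) ⊤ hs
    (fun L hL _ => ⟨ann_eq_of_prim φ hf hp hL,
      wP_atom M N m φ hL hf hfm (ann_eq_of_prim φ hf hp hL) hx hx0 hco⟩)
    (fun L hL _ => card_atom_eq φ hL hfm (ann_eq_of_prim φ hf hp hL))
  have : Nontrivial (AEval' φ) := (AEval'.of φ).toEquiv.nontrivial_congr.mp ‹_›
  refine ⟨k, fun h => top_ne_bot (hk0 h), ?_, ?_⟩
  · rw [← hk1, ← card_toF, toF_top]
    exact (Nat.card_congr Submodule.topEquiv.toEquiv).symm
  · rw [wgt, ← toF_top φ, muG_toF, hk2, show rs M N (φ ^ m) (toF φ ⊤) = wP M N m φ ⊤ from rfl, hk3]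
    push_cast
    ring

end CfsgLib.Cuspidal
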