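import Cfsg.Agent.Lib.Cuspidal.Orbit
import Cfsg.Agent.Lib.Cuspidal.Weight

/-!
# The cuspidal class function is a generalized character

* `Setup`: the modulus `N` and the exponent `m`;
* `Setup.root_ne_zero`, `Setup.degree_le`, `Setup.semisimple_pow`;
* `isGen_chiE`: `g ↦ chiE g` is a generalized character of the automorphism group.
-/

set_option autoImplicit false

noncomputable section

namespace CfsgLib.Cuspidal

open Cfsg CfsgLib.Blocks CfsgLib.Modular CfsgLib.Char Polynomial Module

attribute [local instance] CfsgLib.Blocks.resField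

variable {M : Ideal AlgInt} [M.IsMaximal] {F V : Type*} [Field F] [Fintype F] [Algebra F (Res M)]
  [AddCommGroup V] [Module F V]

/-- The hypotheses on the parameters. -/
structure Setup (F V : Type*) [Field F] [Fintype F] [AddCommGroup V] [Module F V]
    (M : Ideal AlgInt) (p N m : ℕ) : Prop where
  hM : IsPModular p M
  hpN : ¬ p ∣ N
  hN : ∀ d, 0 < d → d ≤ finrank F V → Fintype.card F ^ d - 1 ∣ N
  hco : (Nat.card (Module.End F V)ˣ).Coprime m
  hcod : ∀ d, 0 < d → d ≤ finrank F V → m.Coprime (Fintype.card F ^ d - 1)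

section Facts

variable [Finite V] (φ : Module.End F V)

omit [Fintype F] in
theorem exists_root {f : F[X]} (hf : Irreducible f) : ∃ x : Res M, aeval x f = 0 := by
  have := res_isAlgClosed M
  have : FaithfulSMul F (Res M) :=
    (faithfulSMul_iff_algebraMap_injective F (Res M)).mpr (algebraMap F (Res M)).injective
  exact IsAlgClosed.exists_aeval_eq_zero _ f hf.degree_pos.ne'

omit [Fintype F] [Finite V] in
theorem root_ne_zero (hφ : Function.Injective φ) {L : Submodule F[X] (AEval' φ)} (hL : IsAtom L)
    {f : F[X]} (hf : Irreducible f) (hfm : f.Monic) (hann : L.annihilator = Ideal.span {f})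
    {x : Res M} (hx : aeval x f = 0) : x ≠ 0 := by
  intro hx0
  subst hx0
  have hX : X ∣ f := by
    rw [X_dvd_iff]
    rw [← coeff_zero_eq_aeval_zero'] at hx
    exact (map_eq_zero_iff _ (algebraMap F (Res M)).injective).mp hx
  have hfX : f = X := (eq_of_monic_of_associated monic_X hfm
    ((irreducible_X.associated_of_dvd hf hX))).symm
  obtain ⟨l, hl, hl0⟩ := exists_ne_zero_mem hL.1
  obtain ⟨v, rfl⟩ := (AEval'.of φ).surjective l
  have h1 : (X : F[X]) ∈ L.annihilator := by rw [hann, hfX]; exact Ideal.mem_span_singleton_self _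
  have h2 := Submodule.mem_annihilator.mp h1 _ hl
  rw [AEval'.X_smul_of, LinearEquiv.map_eq_zero_iff] at h2
  exact hl0 (by rw [hφ (h2.trans (map_zero φ).symm), map_zero])

theorem degree_le {L : Submodule F[X] (AEval' φ)} (hL : IsAtom L) {f : F[X]} (hfm : f.Monic)
    (hann : L.annihilator = Ideal.span {f}) : f.natDegree ≤ finrank F V := by
  have : FiniteDimensional F V := Module.Finite.of_finite
  have h1 : Nat.card L ≤ Nat.card V := by
    rw [← card_toF]
    exact Nat.card_le_card_of_injective _ Subtype.val_injective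
  rw [card_atom_eq φ hL hfm hann, Module.natCard_eq_pow_finrank (K := F) (V := V),
    Nat.card_eq_fintype_card] at h1
  exact (Nat.pow_le_pow_iff_right Fintype.one_lt_card).mp h1

omit [Fintype F] in
theorem prim_atom [Nontrivial V] {f : F[X]} (hf : Irreducible f) (hp : IsPrim φ f) :
    ∃ L : Submodule F[X] (AEval' φ), IsAtom L ∧ L.annihilator = Ideal.span {f} := by
  have : Nontrivial (AEval' φ) := (AEval'.of φ).toEquiv.nontrivial_congr.mp ‹_›
  obtain ⟨L, hL, -⟩ := (IsAtomic.eq_bot_or_exists_atom_le
    (⊤ : Submodule F[X] (AEval' φ))).resolve_left (fun e => top_ne_bot e)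
  exact ⟨L, hL, ann_eq_of_prim φ hf hp hL⟩

omit [Fintype F] in
theorem kills_of_muG {U : Submodule F V} (hU : U ≤ U.comap φ) (hmu : muG φ U ≠ 0) {r : F[X]}
    (h : ∀ L : Submodule F[X] (AEval' φ), IsAtom L → r ∈ L.annihilator) :
    ∀ v ∈ U, aeval φ r v = 0 := by
  have hS : soc (toR φ U hU) = toR φ U hU := by
    by_contra hne
    apply hmu
    rw [← toF_toR φ U hU, muG_toF, mu_eq_zero hne]
  intro v hv
  exact kills_of_soc φ hS (fun L hL _ => h L hL) v (by rwa [toF_toR])

theorem semisimple_pow {p N m : ℕ} (hs : Setup F V M p N m) (hφ : Function.Injective φ)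
    {U : Submodule F V} (hU : U ≤ U.comap φ) (hmu : muG φ U ≠ 0) :
    ∀ v ∈ U, (φ ^ N) v = v := by
  intro v hv
  have h := kills_of_muG φ hU hmu (r := X ^ N - 1) (fun L hL => by
    obtain ⟨f, hf, hfm, hann⟩ := exists_ann φ hL
    obtain ⟨x, hx⟩ := exists_root (M := M) hf
    have hx0 := root_ne_zero φ hφ hL hf hfm hann hx
    rw [hann, Ideal.mem_span_singleton, minpoly.eq_of_irreducible_of_monic hf hx hfm, minpoly.dvd_iff,
      map_sub, map_pow, aeval_X, map_one, sub_eq_zero]
    obtain ⟨c, hc⟩ := hs.hN _ hf.natDegree_pos (degree_le φ hL hfm hann)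
    rw [hc, pow_mul, root_pow_eq_one M hf hfm hx hx0, one_pow]) v hv
  rw [map_sub, map_pow, aeval_X, map_one, LinearMap.sub_apply, Module.End.one_apply, sub_eq_zero] at h
  exact h

end Facts

/-- A subspace, as a point acted on by automorphisms. -/
@[ext] structure Sub (F V : Type*) [Field F] [AddCommGroup V] [Module F V] where
  /-- The subspace. -/
  carrier : Submodule F V

/-- The linear equivalence of a unit. -/
def unitEquiv (g : (Module.End F V)ˣ) : V ≃ₗ[F] V :=
  LinearMap.GeneralLinearGroup.generalLinearEquiv F V g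

omit [Fintype F] in
theorem unitEquiv_apply (g : (Module.End F V)ˣ) (v : V) : unitEquiv g v = (g : Module.End F V) v := rfl

omit [Fintype F] in
theorem coe_conj_unit (h g : (Module.End F V)ˣ) :
    ((h * g * h⁻¹ : (Module.End F V)ˣ) : Module.End F V) = (unitEquiv h).conj (g : Module.End F V) := by
  refine LinearMap.ext fun v => ?_
  obtain ⟨w, rfl⟩ := (unitEquiv h).surjective v
  rw [LinearEquiv.conj_apply_apply, LinearEquiv.symm_apply_apply, Units.val_mul, Units.val_mul,
    Module.End.mul_apply, Module.End.mul_apply, unitEquiv_apply, unitEquiv_apply,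
    ← Module.End.mul_apply (h⁻¹ : (Module.End F V)ˣ).val, ← Units.val_mul, inv_mul_cancel,
    Units.val_one, Module.End.one_apply]

omit [Fintype F] in
theorem conj_pow_endo (e : V ≃ₗ[F] V) (φ : Module.End F V) (k : ℕ) :
    e.conj φ ^ k = e.conj (φ ^ k) := by
  induction k with
  | zero => simp [Module.End.one_eq_id]
  | succ k ih => rw [pow_succ, pow_succ, ih, Module.End.mul_eq_comp, Module.End.mul_eq_comp, e.conj_comp]

instance : MulAction (Module.End F V)ˣ (Sub F V) where
  smul g U := ⟨U.carrier.map (g : Module.End F V)⟩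
  one_smul U := Sub.ext (by
    show U.carrier.map ((1 : (Module.End F V)ˣ) : Module.End F V) = U.carrier
    rw [Units.val_one, Module.End.one_eq_id, Submodule.map_id])
  mul_smul g h U := Sub.ext (by
    show U.carrier.map ((g * h : (Module.End F V)ˣ) : Module.End F V) =
      (U.carrier.map (h : Module.End F V)).map (g : Module.End F V)
    rw [Units.val_mul, Module.End.mul_eq_comp, Submodule.map_comp])

variable [Finite V]

omit [Fintype F] in
theorem smul_eq_iff (g : (Module.End F V)ˣ) (U : Sub F V) :
    g • U = U ↔ U.carrier ≤ U.carrier.comap (g : Module.End F V) := by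
  rw [Sub.ext_iff, ← Submodule.map_le_iff_le_comap]
  show U.carrier.map (g : Module.End F V) = U.carrier ↔ _
  refine ⟨fun h => h.le, fun h => ?_⟩
  have : FiniteDimensional F V := Module.Finite.of_finite
  refine Submodule.eq_of_le_of_finrank_eq h ?_
  exact (Submodule.equivMapOfInjective _ (unitEquiv g).injective U.carrier).finrank_eq.symm

instance : Finite (Sub F V) := Finite.of_injective Sub.carrier fun _ _ => Sub.ext

/-- The subspaces strictly below `U`. -/
@[ext] structure Below (U : Sub F V) where
  /-- The subspace. -/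
  pt : Sub F V
  lt : pt.carrier < U.carrier

instance (U : Sub F V) : Finite (Below U) := Finite.of_injective Below.pt fun _ _ => Below.ext

instance (U : Sub F V) : MulAction (MulAction.stabilizer (Module.End F V)ˣ U) (Below U) where
  smul h W := ⟨(h : (Module.End F V)ˣ) • W.pt, by
    have h' : U.carrier.map ((h : (Module.End F V)ˣ) : Module.End F V) = U.carrier :=
      congrArg Sub.carrier h.2
    conv_rhs => rw [← h']
    exact Submodule.map_strictMono_of_injective (f := ((h : (Module.End F V)ˣ) : Module.End F V))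
      (unitEquiv (h : (Module.End F V)ˣ)).injective W.lt⟩
  one_smul W := Below.ext (one_smul _ W.pt)
  mul_smul g h W := Below.ext (mul_smul (g : (Module.End F V)ˣ) h W.pt)

variable [Fintype (Module.End F V)ˣ]

omit [Fintype F] in
theorem isGen_muG : ∀ U : Sub F V,
    IsGeneralizedCharacter (MulAction.stabilizer (Module.End F V)ˣ U)
      fun s => (muG ((s : (Module.End F V)ˣ) : Module.End F V) U.carrier : ℂ) := by
  classical
  suffices h : ∀ (W : Submodule F V) (U : Sub F V), U.carrier = W →
      IsGeneralizedCharacter (MulAction.stabilizer (Module.End F V)ˣ U)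
        fun s => (muG ((s : (Module.End F V)ˣ) : Module.End F V) U.carrier : ℂ) from fun U => h _ U rfl
  intro W
  induction W using (wellFounded_lt (α := Submodule F V)).induction with
  | _ W ih =>
  rintro U rfl
  by_cases h0 : U.carrier = ⊥
  · simp only [h0, muG_bot, Int.cast_one]
    exact isGen_one
  have := Fintype.ofFinite (Below U)
  have := Fintype.ofFinite (MulAction.stabilizer (Module.End F V)ˣ U)
  let w : MulAction.stabilizer (Module.End F V)ˣ U → Below U → ℂ := fun s W =>
    (muG ((s : (Module.End F V)ˣ) : Module.End F V) W.pt.carrier : ℂ)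
  have hgen : IsGeneralizedCharacter _ (fixedSum w) := by
    refine isGen_sum_fixed w (fun h g W => ?_) fun W => ?_
    · show (muG ((((h : (Module.End F V)ˣ) * g * (h : (Module.End F V)ˣ)⁻¹ : (Module.End F V)ˣ)) :
          Module.End F V) (W.pt.carrier.map ((h : (Module.End F V)ˣ) : Module.End F V)) : ℂ) = _
      rw [coe_conj_unit]
      exact congrArg (fun z : ℤ => (z : ℂ)) (muG_conj _ (unitEquiv (h : (Module.End F V)ˣ)) _)
    · let ι : MulAction.stabilizer (MulAction.stabilizer (Module.End F V)ˣ U) W →*
          MulAction.stabilizer (Module.End F V)ˣ W.pt :=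
        { toFun := fun s => ⟨(s.1 : (Module.End F V)ˣ), congrArg Below.pt s.2⟩
          map_one' := rfl
          map_mul' := fun _ _ => rfl }
      exact isGen_comp (ih _ W.lt W.pt rfl) ι
  have he : (fun s : MulAction.stabilizer (Module.End F V)ˣ U =>
      (muG ((s : (Module.End F V)ˣ) : Module.End F V) U.carrier : ℂ)) = -fixedSum w := by
    funext s
    have hs : U.carrier ≤ U.carrier.comap ((s : (Module.End F V)ˣ) : Module.End F V) :=
      (smul_eq_iff _ U).mp s.2
    rw [Pi.neg_apply, fixedSum, muG_eq _ hs h0, Int.cast_neg, Int.cast_sum, neg_inj]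
    refine (Finset.sum_bij (fun (W : Below U) _ => W.pt.carrier) (fun W hW => ?_)
      (fun _ _ _ _ h => Below.ext (Sub.ext h)) (fun W hW => ?_) fun W _ => rfl).symm
    · rw [Finset.mem_filter] at hW ⊢
      exact ⟨(mem_invSet _).mpr ((smul_eq_iff _ W.pt).mp (congrArg Below.pt hW.2)), W.lt⟩
    · rw [Finset.mem_filter, mem_invSet] at hW
      exact ⟨⟨⟨W⟩, hW.2⟩, Finset.mem_filter.mpr ⟨Finset.mem_univ _,
        Below.ext ((smul_eq_iff _ ⟨W⟩).mpr hW.1)⟩, rfl⟩
  rw [he]
  exact isGen_neg hgen

variable {p N m : ℕ}

theorem isGen_chiE (hs : Setup F V M p N m) :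
    IsGeneralizedCharacter (Module.End F V)ˣ fun g => chiE M N m (g : Module.End F V) := by
  classical
  have : FiniteDimensional F V := Module.Finite.of_finite
  have := Fintype.ofFinite (Sub F V)
  let w : (Module.End F V)ˣ → Sub F V → ℂ := fun g U => wgt M N m (g : Module.End F V) U.carrier
  have hgen : IsGeneralizedCharacter _ (fixedSum w) := by
    refine isGen_sum_fixed w (fun h g U => ?_) fun U => ?_
    · show wgt M N m (((h * g * h⁻¹ : (Module.End F V)ˣ)) : Module.End F V)
        (U.carrier.map ((h : (Module.End F V)ˣ) : Module.End F V)) = _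
      rw [coe_conj_unit]
      show wgt M N m _ (U.carrier.map (unitEquiv h : V →ₗ[F] V)) = _
      rw [wgt, muG_conj, conj_pow_endo, rs_conj]
      rfl
    · set H := MulAction.stabilizer (Module.End F V)ˣ U
      have := Fintype.ofFinite H
      let res : H →* Module.End F U.carrier :=
        { toFun := fun s => ((s : (Module.End F V)ˣ) : Module.End F V).restrict
            (p := U.carrier) (q := U.carrier) ((smul_eq_iff _ U).mp s.2)
          map_one' := LinearMap.ext fun _ => Subtype.ext rfl
          map_mul' := fun _ _ => LinearMap.ext fun _ => Subtype.ext rfl }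
      have : Finite (Module.End F U.carrier) := Finite.of_injective _ DFunLike.coe_injective
      have := Fintype.ofFinite (Module.End F U.carrier)ˣ
      obtain ⟨P, hP, hPval⟩ := exists_gen_lift (M := M) hs.hM hs.hpN (Units.coeHom (Module.End F U.carrier))
      have hcoH : (Nat.card H).Coprime m :=
        Nat.Coprime.coprime_dvd_left (Subgroup.card_subgroup_dvd_card H) hs.hco
      have hgen2 := isGen_comp_pow (isGen_comp hP res.toHomUnits) hcoH
      have he : (fun s : H => w (s : (Module.End F V)ˣ) U) =
          (fun s : H => (muG ((s : (Module.End F V)ˣ) : Module.End F V) U.carrier : ℂ)) *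
            fun s : H => (P ∘ res.toHomUnits) (s ^ m) := by
        funext s
        set φ := ((s : (Module.End F V)ˣ) : Module.End F V) with hφ
        have hinv : U.carrier ≤ U.carrier.comap φ := (smul_eq_iff _ U).mp s.2
        show wgt M N m φ U.carrier = (muG φ U.carrier : ℂ) * P (res.toHomUnits (s ^ m))
        rw [wgt]
        by_cases hmu : muG φ U.carrier = 0
        · rw [hmu, Int.cast_zero, zero_mul, zero_mul]
        have hpw := semisimple_pow φ hs (unitEquiv (s : (Module.End F V)ˣ)).injective hinv hmu
        rw [hPval, rs_eq M N _ (pow_invariant m φ hinv)]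
        · congr 2
        · apply Units.ext
          rw [Units.val_pow_eq_pow_val, MonoidHom.coe_toHomUnits, ← map_pow, ← pow_mul, mul_comm,
            pow_mul, map_pow, show res (s ^ N) = 1 from LinearMap.ext fun v => Subtype.ext ?_, one_pow,
            Units.val_one]
          show ((((s ^ N : H) : (Module.End F V)ˣ)) : Module.End F V) v.1 = v.1
          rw [SubmonoidClass.coe_pow, Units.val_pow_eq_pow_val]
          exact hpw v.1 v.2
      rw [he]
      exact isGen_mul (isGen_muG U) hgen2
  have he : (fun g : (Module.End F V)ˣ => chiE M N m (g : Module.End F V)) =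
      (((-1) ^ finrank F V : ℤ) : ℂ) • fixedSum w := by
    funext g
    rw [Pi.smul_apply, smul_eq_mul, Int.cast_pow, Int.cast_neg, Int.cast_one, chiE, fixedSum]
    congr 1
    refine (Finset.sum_bij (fun (U : Sub F V) _ => U.carrier) (fun U hU => ?_)
      (fun _ _ _ _ h => Sub.ext h) (fun U hU => ?_) fun U _ => rfl).symm
    · exact (mem_invSet _).mpr ((smul_eq_iff g U).mp (Finset.mem_filter.mp hU).2)
    · exact ⟨⟨U⟩, Finset.mem_filter.mpr ⟨Finset.mem_univ _,
        (smul_eq_iff g ⟨U⟩).mpr ((mem_invSet _).mp hU)⟩, rfl⟩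
  rw [he]
  exact isGen_intCast_smul hgen _

end CfsgLib.Cuspidal
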