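import Cfsg.Agent.Lib.Cuspidal.Endo

/-!
# Counting the endomorphisms killed by an irreducible polynomial

`card_killed_endo`: their number times `|GL k (q ^ d)|` is the number of automorphisms.
-/

set_option autoImplicit false

noncomputable section

namespace CfsgLib.Cuspidal

open Polynomial Module

variable {F V : Type*} [Field F] [AddCommGroup V] [Module F V]

theorem aeval_conj {W : Type*} [AddCommGroup W] [Module F W] (e : W ≃ₗ[F] V) (a : Module.End F W)
    (p : F[X]) : aeval (e.conj a) p = e.conj (aeval a p) := by
  refine LinearMap.ext fun v => ?_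
  obtain ⟨w, rfl⟩ := e.surjective v
  rw [LinearEquiv.conj_apply_apply, LinearEquiv.symm_apply_apply]
  induction p using Polynomial.induction_on generalizing w with
  | C c => simp [Module.algebraMap_end_apply]
  | add p q hp hq => simp only [map_add, LinearMap.add_apply, hp w, hq w]
  | monomial k c ih =>
    rw [pow_succ, ← mul_assoc, map_mul (aeval (e.conj a)) (C c * X ^ k) X,
      map_mul (aeval a) (C c * X ^ k) X, Module.End.mul_apply, Module.End.mul_apply, aeval_X, aeval_X,
      LinearEquiv.conj_apply_apply, LinearEquiv.symm_apply_apply, ih (a w)]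

theorem card_equiv_self {K : Type*} [Field K] [Fintype K] (k : ℕ) :
    Nat.card ((Fin k → K) ≃ₗ[K] (Fin k → K)) =
      ∏ i ∈ Finset.range k, (Fintype.card K ^ k - Fintype.card K ^ i) := by
  rw [Finset.prod_range fun i => Fintype.card K ^ k - Fintype.card K ^ i, ← Matrix.card_GL_field]
  exact Nat.card_congr ((LinearMap.GeneralLinearGroup.generalLinearEquiv K (Fin k → K)).symm.trans
    Matrix.GeneralLinearGroup.toLin.symm).toEquiv

variable [Fintype F] [Finite V]

/-- The count of endomorphisms killed by an irreducible polynomial. -/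
theorem card_killed_endo {f : F[X]} (hf : Irreducible f) (hfm : f.Monic) {k : ℕ}
    (hk : f.natDegree * k = finrank F V) :
    Nat.card {φ : Module.End F V // aeval φ f = 0} *
        ∏ i ∈ Finset.range k,
          ((Fintype.card F ^ f.natDegree) ^ k - (Fintype.card F ^ f.natDegree) ^ i) =
      Nat.card (Module.End F V)ˣ := by
  classical
  have : FiniteDimensional F V := Module.Finite.of_finite
  set I := Ideal.span {f} with hI
  have hmax : I.IsMaximal := span_isMaximal hf
  let _ : Field (F[X] ⧸ I) := Ideal.Quotient.field I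
  have hfin : Module.Finite F (F[X] ⧸ I) := hfm.finite_quotient
  have : Finite (F[X] ⧸ I) := Module.finite_of_finite F
  let _ : Fintype (F[X] ⧸ I) := Fintype.ofFinite _
  have hcardK : Fintype.card (F[X] ⧸ I) = Fintype.card F ^ f.natDegree := by
    rw [← Nat.card_eq_fintype_card, card_quotient_span f hfm, Nat.card_eq_fintype_card]
  let W := Fin k → F[X] ⧸ I
  let θ : Module.End F W := (LinearMap.lsmul F[X] W (X : F[X])).restrictScalars F
  have hθ : ∀ (p : F[X]) (w : W), aeval θ p w = p • w := fun p w => by
    induction p using Polynomial.induction_on generalizing w with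
    | C c =>
      rw [aeval_C, Module.algebraMap_end_apply, ← Polynomial.algebraMap_eq, algebraMap_smul]
    | add p r hp hr => rw [map_add, LinearMap.add_apply, hp, hr, add_smul]
    | monomial j c ih =>
      rw [pow_succ, ← mul_assoc, map_mul (aeval θ) (C c * X ^ j) X, Module.End.mul_apply, aeval_X,
        ih, mul_smul (C c * X ^ j) X w]
      rfl
  have hθ0 : aeval θ f = 0 := LinearMap.ext fun w => by
    rw [hθ, LinearMap.zero_apply]
    funext i
    obtain ⟨r, hr⟩ := Ideal.Quotient.mk_surjective (w i)
    rw [Pi.smul_apply, Pi.zero_apply, ← hr, Algebra.smul_def, Ideal.Quotient.algebraMap_eq, ← map_mul]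
    exact Ideal.Quotient.eq_zero_iff_mem.mpr (Ideal.mul_mem_right r I (Ideal.mem_span_singleton_self f))
  have hrank : finrank F W = finrank F V := by
    have h1 : finrank F (F[X] ⧸ I) = f.natDegree := finrank_quotient_span_eq_natDegree
    rw [← hk, Module.finrank_pi_fintype]
    simp [h1, mul_comm]
  let e0 : W ≃ₗ[F] V := LinearEquiv.ofFinrankEq W V hrank
  let toφ : (W ≃ₗ[F] V) → {φ : Module.End F V // aeval φ f = 0} := fun e =>
    ⟨e.conj θ, by rw [aeval_conj, hθ0, map_zero]⟩
  have hsurj : Function.Surjective toφ := by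
    rintro ⟨φ, hφ⟩
    have hT : Module.IsTorsionBySet F[X] (AEval' φ) (I : Set F[X]) := fun x r => by
      obtain ⟨v, rfl⟩ := (AEval'.of φ).surjective x
      obtain ⟨t, ht⟩ := Ideal.mem_span_singleton'.mp r.2
      rw [← ht, smul_of_eq, map_mul, hφ, mul_zero, LinearMap.zero_apply, map_zero]
    let _ : Module (F[X] ⧸ I) (AEval' φ) := hT.module
    have : IsScalarTower F[X] (F[X] ⧸ I) (AEval' φ) := hT.isScalarTower
    have : IsScalarTower F (F[X] ⧸ I) (AEval' φ) := hT.isScalarTower
    have : FiniteDimensional (F[X] ⧸ I) (AEval' φ) := Module.Finite.of_finite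
    have hk' : finrank (F[X] ⧸ I) (AEval' φ) = k := by
      have h1 : Nat.card (AEval' φ) = Fintype.card F ^ (f.natDegree * k) := by
        rw [← Nat.card_congr (AEval'.of φ).toEquiv, hk, Module.natCard_eq_pow_finrank (K := F),
          Nat.card_eq_fintype_card]
      rw [Module.natCard_eq_pow_finrank (K := F[X] ⧸ I), Nat.card_eq_fintype_card, hcardK,
        ← pow_mul] at h1
      exact Nat.eq_of_mul_eq_mul_left hf.natDegree_pos
        (Nat.pow_right_injective Fintype.one_lt_card h1)
    let b : W ≃ₗ[F[X] ⧸ I] AEval' φ := (Module.finBasisOfFinrankEq _ _ hk').equivFun.symm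
    refine ⟨(b.restrictScalars F).trans (AEval'.of φ).symm, Subtype.ext (LinearMap.ext fun v => ?_)⟩
    obtain ⟨w, rfl⟩ := ((b.restrictScalars F).trans (AEval'.of φ).symm).surjective v
    show ((b.restrictScalars F).trans (AEval'.of φ).symm).conj θ _ = φ _
    rw [LinearEquiv.conj_apply_apply, LinearEquiv.symm_apply_apply]
    apply (AEval'.of φ).injective
    rw [← AEval'.X_smul_of]
    simp only [LinearEquiv.trans_apply, LinearEquiv.apply_symm_apply,
      LinearEquiv.restrictScalars_apply]
    show b ((X : F[X]) • w) = _
    rw [← algebraMap_smul (F[X] ⧸ I) (X : F[X]) w, map_smul, algebraMap_smul]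
  have : Finite (Module.End F V) := Finite.of_injective _ DFunLike.coe_injective
  have := Fintype.ofFinite {φ : Module.End F V // aeval φ f = 0}
  have : Finite (W ≃ₗ[F] V) := Finite.of_injective _ DFunLike.coe_injective
  have := Fintype.ofFinite (W ≃ₗ[F] V)
  have hfib : ∀ y, (Finset.univ.filter fun e => toφ e = y).card =
      Nat.card (W ≃ₗ[F[X] ⧸ I] W) := by
    intro y
    obtain ⟨e, rfl⟩ := hsurj y
    rw [← Fintype.card_subtype, ← Nat.card_eq_fintype_card]
    have hlin : ∀ e' : W ≃ₗ[F] V, toφ e' = toφ e → ∀ (c : F[X] ⧸ I) (w : W),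
        e.symm (e' (c • w)) = c • e.symm (e' w) := by
      intro e' he' c w
      obtain ⟨p, rfl⟩ := Ideal.Quotient.mk_surjective c
      rw [← Ideal.Quotient.algebraMap_eq, algebraMap_smul, algebraMap_smul, ← hθ, ← hθ]
      apply e.injective
      rw [LinearEquiv.apply_symm_apply]
      have h1 := LinearMap.congr_fun (congrArg (fun z : {φ : Module.End F V // aeval φ f = 0} => aeval z.1 p) he') (e' w)
      simp only [toφ, aeval_conj, LinearEquiv.conj_apply_apply, LinearEquiv.symm_apply_apply] at h1
      exact h1
    refine Nat.card_congr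
      { toFun := fun e' =>
          { (e'.1.trans e.symm) with map_smul' := fun c w => hlin e'.1 e'.2 c w }
        invFun := fun c => ⟨(c.restrictScalars F).trans e, ?_⟩
        left_inv := fun e' => Subtype.ext (LinearEquiv.ext fun w => e.apply_symm_apply _)
        right_inv := fun c => LinearEquiv.ext fun w => e.symm_apply_apply _ }
    refine Subtype.ext (LinearMap.ext fun v => ?_)
    obtain ⟨w, rfl⟩ := ((c.restrictScalars F).trans e).surjective v
    show ((c.restrictScalars F).trans e).conj θ _ = e.conj θ _
    rw [LinearEquiv.conj_apply_apply, LinearEquiv.conj_apply_apply, LinearEquiv.symm_apply_apply]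
    simp only [LinearEquiv.trans_apply, LinearEquiv.restrictScalars_apply,
      LinearEquiv.symm_apply_apply]
    show e (c ((X : F[X]) • w)) = e ((X : F[X]) • c w)
    rw [← algebraMap_smul (F[X] ⧸ I) (X : F[X]) w, map_smul, algebraMap_smul]
  have hE : Fintype.card (W ≃ₗ[F] V) = Nat.card (Module.End F V)ˣ := by
    rw [← Nat.card_eq_fintype_card,
      Nat.card_congr (LinearMap.GeneralLinearGroup.generalLinearEquiv F V).toEquiv]
    exact Nat.card_congr
      { toFun := fun e => e0.symm.trans e
        invFun := fun a => e0.trans a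
        left_inv := fun e => LinearEquiv.ext fun w => by simp
        right_inv := fun a => LinearEquiv.ext fun w => by simp }
  rw [← hE, ← Finset.card_univ (α := W ≃ₗ[F] V),
    Finset.card_eq_sum_card_fiberwise (t := Finset.univ) fun e _ => Finset.mem_univ (toφ e),
    Finset.sum_congr rfl fun y _ => hfib y, Finset.sum_const, Finset.card_univ, smul_eq_mul,
    ← Nat.card_eq_fintype_card (α := {φ : Module.End F V // aeval φ f = 0}), card_equiv_self, hcardK]

end CfsgLib.Cuspidal
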