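import Cfsg.Agent.Lib.Cuspidal.Endo
import Cfsg.Agent.Lib.Cuspidal.Hom

/-!
# Vanishing sums along unipotent radicals

`sum_translates`: for `φ` primary of type `f`, killed by `f` on a proper nonzero invariant `U`,
the sum of `∏ (1 - Q ^ i)` over the translates by maps into `U` killing `U` is zero.
-/

set_option autoImplicit false

noncomputable section

namespace CfsgLib.Cuspidal

open Polynomial Module

variable {F V : Type*} [Field F] [AddCommGroup V] [Module F V] (φ : Module.End F V) (U : Submodule F V)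

/-- The maps into `U` killing `U`. -/
def radEnd : AddSubgroup (Module.End F V) where
  carrier := {N | (∀ v, N v ∈ U) ∧ ∀ u ∈ U, N u = 0}
  zero_mem' := ⟨fun _ => U.zero_mem, fun _ _ => rfl⟩
  add_mem' := fun {a b} ha hb => ⟨fun v => U.add_mem (ha.1 v) (hb.1 v), fun u hu => by
    rw [LinearMap.add_apply, ha.2 u hu, hb.2 u hu, add_zero]⟩
  neg_mem' := fun {a} ha => ⟨fun v => U.neg_mem (ha.1 v), fun u hu => by
    rw [LinearMap.neg_apply, ha.2 u hu, neg_zero]⟩

theorem mem_radEnd {N : Module.End F V} :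
    N ∈ radEnd U ↔ (∀ v, N v ∈ U) ∧ ∀ u ∈ U, N u = 0 := Iff.rfl

variable {φ U} {N : Module.End F V}

theorem add_invariant (hU : U ≤ U.comap φ) (hN : N ∈ radEnd U) : U ≤ U.comap (φ + N) := fun u hu => by
  rw [Submodule.mem_comap, LinearMap.add_apply, hN.2 u hu, add_zero]
  exact hU hu

theorem aeval_add_on (hU : U ≤ U.comap φ) (hN : N ∈ radEnd U) (p : F[X]) {u : V} (hu : u ∈ U) :
    aeval (φ + N) p u = aeval φ p u := by
  induction p using Polynomial.induction_on generalizing u with
  | C a => rw [aeval_C, aeval_C]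
  | add p q hp hq => simp only [map_add, LinearMap.add_apply, hp hu, hq hu]
  | monomial n a ih =>
    rw [pow_succ, ← mul_assoc, map_mul (aeval (φ + N)) (C a * X ^ n) X, map_mul (aeval φ) (C a * X ^ n) X,
      Module.End.mul_apply, Module.End.mul_apply, aeval_X, aeval_X, LinearMap.add_apply, hN.2 u hu,
      add_zero]
    exact ih (hU hu)

theorem aeval_add_sub_mem (hU : U ≤ U.comap φ) (hN : N ∈ radEnd U) (p : F[X]) (v : V) :
    aeval (φ + N) p v - aeval φ p v ∈ U := by
  induction p using Polynomial.induction_on generalizing v with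
  | C a => simp
  | add p q hp hq =>
    simp only [map_add, LinearMap.add_apply, add_sub_add_comm]
    exact U.add_mem (hp v) (hq v)
  | monomial n a ih =>
    rw [pow_succ, ← mul_assoc, map_mul (aeval (φ + N)) (C a * X ^ n) X, map_mul (aeval φ) (C a * X ^ n) X,
      Module.End.mul_apply, Module.End.mul_apply, aeval_X, aeval_X]
    have h2 := U.add_mem (ih ((φ + N) v)) (aeval_mem φ hU (C a * X ^ n) (hN.1 v))
    have e : aeval φ (C a * X ^ n) ((φ + N) v) =
        aeval φ (C a * X ^ n) (φ v) + aeval φ (C a * X ^ n) (N v) := by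
      rw [LinearMap.add_apply, map_add]
    rw [e] at h2
    convert h2 using 1
    abel

theorem isPrim_add (hU : U ≤ U.comap φ) (hN : N ∈ radEnd U) {f : F[X]} (hf : IsPrim φ f) :
    IsPrim (φ + N) f := by
  obtain ⟨k, hk⟩ := hf
  refine ⟨k + k, LinearMap.ext fun v => ?_⟩
  have h1 : aeval (φ + N) (f ^ k) v ∈ U := by
    have := aeval_add_sub_mem hU hN (f ^ k) v
    rwa [map_pow (aeval φ), hk, LinearMap.zero_apply, sub_zero] at this
  rw [← map_pow, pow_add, map_mul, Module.End.mul_apply, aeval_add_on hU hN _ h1, map_pow, hk,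
    LinearMap.zero_apply, LinearMap.zero_apply]

variable (φ U)

/-- The preimage of `U` under `f φ`. -/
def zTilde (f : F[X]) : Submodule F V := U.comap (aeval φ f)

/-- The maps in `radEnd U` commuting with `φ` on `zTilde φ U f`. -/
def commRad (f : F[X]) : AddSubgroup (Module.End F V) where
  carrier := {N | N ∈ radEnd U ∧ ∀ v ∈ zTilde φ U f, N (φ v) = φ (N v)}
  zero_mem' := ⟨(radEnd U).zero_mem, fun v _ => (map_zero φ).symm⟩
  add_mem' := fun {a b} ha hb => ⟨(radEnd U).add_mem ha.1 hb.1, fun v hv => by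
    rw [LinearMap.add_apply, LinearMap.add_apply, ha.2 v hv, hb.2 v hv, map_add]⟩
  neg_mem' := fun {a} ha => ⟨(radEnd U).neg_mem ha.1, fun v hv => by
    rw [LinearMap.neg_apply, LinearMap.neg_apply, ha.2 v hv, map_neg]⟩

variable {φ U}

theorem zTilde_add (hU : U ≤ U.comap φ) (hN : N ∈ radEnd U) (f : F[X]) :
    zTilde (φ + N) U f = zTilde φ U f := by
  ext v
  simp only [zTilde, Submodule.mem_comap]
  have h := aeval_add_sub_mem hU hN f v
  exact ⟨fun h' => by simpa using U.sub_mem h' h, fun h' => by simpa using U.add_mem h h'⟩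

theorem commRad_add (hU : U ≤ U.comap φ) (hN : N ∈ radEnd U) (f : F[X]) :
    commRad (φ + N) U f = commRad φ U f := by
  ext T
  show (T ∈ radEnd U ∧ ∀ v ∈ zTilde (φ + N) U f, T ((φ + N) v) = (φ + N) (T v)) ↔ T ∈ commRad φ U f
  rw [zTilde_add hU hN]
  refine and_congr_right fun hT => forall₂_congr fun v _ => ?_
  rw [LinearMap.add_apply, LinearMap.add_apply, map_add, hT.2 _ (hN.1 v), hN.2 _ (hT.1 v),
    add_zero, add_zero]

theorem zTilde_invariant (hU : U ≤ U.comap φ) (f : F[X]) :
    zTilde φ U f ≤ (zTilde φ U f).comap φ := fun v hv => by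
  simp only [zTilde, Submodule.mem_comap] at hv ⊢
  have hc : aeval φ f * φ = φ * aeval φ f := by simpa using congrArg (aeval φ) (mul_comm f X)
  rw [← Module.End.mul_apply, hc, Module.End.mul_apply]
  exact hU hv

theorem le_zTilde (hU : U ≤ U.comap φ) (f : F[X]) : U ≤ zTilde φ U f := fun _ hu => aeval_mem φ hU f hu

theorem comm_aeval (hU : U ≤ U.comap φ) {f : F[X]} (hN : N ∈ commRad φ U f) (p : F[X]) {v : V}
    (hv : v ∈ zTilde φ U f) : N (aeval φ p v) = aeval φ p (N v) := by
  induction p using Polynomial.induction_on generalizing v with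
  | C a => simp [Module.algebraMap_end_apply]
  | add p q hp hq => simp only [map_add, LinearMap.add_apply, hp hv, hq hv]
  | monomial n a ih =>
    rw [pow_succ, ← mul_assoc, map_mul (aeval φ) (C a * X ^ n) X, Module.End.mul_apply,
      Module.End.mul_apply, aeval_X, ih (zTilde_invariant hU f hv), hN.2 v hv]

theorem aeval_add_deriv (hU : U ≤ U.comap φ) {f : F[X]} (hN : N ∈ commRad φ U f) (p : F[X]) {v : V}
    (hv : v ∈ zTilde φ U f) :
    aeval (φ + N) p v = aeval φ p v + aeval φ (derivative p) (N v) := by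
  induction p using Polynomial.induction_on generalizing v with
  | C a => simp [Module.algebraMap_end_apply]
  | add p q hp hq => simp only [map_add, LinearMap.add_apply, hp hv, hq hv]; abel
  | monomial n a ih =>
    set r := C a * X ^ n with hr
    rw [pow_succ, ← mul_assoc, ← hr, derivative_mul, derivative_X, mul_one,
      map_mul (aeval (φ + N)) r X, map_mul (aeval φ) r X, map_add,
      map_mul (aeval φ) (derivative r) X, LinearMap.add_apply, Module.End.mul_apply,
      Module.End.mul_apply, Module.End.mul_apply, aeval_X, aeval_X, LinearMap.add_apply φ N v,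
      ih ((zTilde φ U f).add_mem (zTilde_invariant hU f hv) (le_zTilde hU f (hN.1.1 v))),
      map_add, map_add, hN.2 v hv, hN.1.2 _ (hN.1.1 v), add_zero]
    abel

variable [Finite V]

instance instFiniteEnd : Finite (Module.End F V) := Finite.of_injective _ DFunLike.coe_injective

theorem sum_commRad (hU : U ≤ U.comap φ) (hbot : U ≠ ⊥) (htop : U ≠ ⊤) {f : F[X]} (hf : Irreducible f)
    (hsep : f.Separable) (hfm : f.Monic) (hp : IsPrim φ f) (hkill : ∀ u ∈ U, aeval φ f u = 0)
    [Fintype (commRad φ U f)] :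
    ∑ T : commRad φ U f, gprod (Nat.card (F[X] ⧸ Ideal.span {f}))
      (Nat.log (Nat.card (F[X] ⧸ Ideal.span {f}))
        (Nat.card (LinearMap.ker (aeval (φ + T.1) f)))) = 0 := by
  classical
  set I := Ideal.span {f} with hI
  have hImax : I.IsMaximal := span_isMaximal hf
  have : FiniteDimensional F V := Module.Finite.of_finite
  have hFfin : Finite (F[X] ⧸ I) := by
    obtain ⟨u, hu, hu0⟩ := (Submodule.ne_bot_iff U).mp hbot
    have : Finite F := Finite.of_injective (fun c : F => c • u) (smul_left_injective F hu0)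
    have : Module.Finite F (F[X] ⧸ I) := hfm.finite_quotient
    exact Module.finite_of_finite F
  set Zt := zTilde φ U f with hZt
  let ZR := toR φ Zt (zTilde_invariant hU f)
  let UR := toR φ U hU
  let W : Submodule F[X] ZR := UR.comap ZR.subtype
  have memUR : ∀ {v : V}, AEval'.of φ v ∈ UR ↔ v ∈ U := (AEval'.of φ).injective.mem_set_image
  have memZR : ∀ {v : V}, AEval'.of φ v ∈ ZR ↔ v ∈ Zt := (AEval'.of φ).injective.mem_set_image
  have hUt : Module.IsTorsionBySet F[X] UR (I : Set F[X]) := fun x r => by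
    obtain ⟨⟨v, hv⟩, rfl⟩ : ∃ v : {v // v ∈ U}, x = ⟨AEval'.of φ v.1, memUR.mpr v.2⟩ := by
      obtain ⟨v, hv⟩ := (AEval'.of φ).surjective x.1
      exact ⟨⟨v, memUR.mp (hv ▸ x.2)⟩, Subtype.ext hv.symm⟩
    obtain ⟨t, ht⟩ := Ideal.mem_span_singleton'.mp r.2
    refine Subtype.ext ?_
    show (r : F[X]) • AEval'.of φ v = 0
    rw [← ht, smul_of_eq, map_mul, Module.End.mul_apply, hkill v hv, map_zero, map_zero]
  have hQt : Module.IsTorsionBySet F[X] (ZR ⧸ W) (I : Set F[X]) := fun x r => by
    obtain ⟨y, rfl⟩ := W.mkQ_surjective x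
    obtain ⟨v, hv⟩ := (AEval'.of φ).surjective y.1
    obtain ⟨t, ht⟩ := Ideal.mem_span_singleton'.mp r.2
    rw [← map_smul, Submodule.mkQ_apply, Submodule.Quotient.mk_eq_zero]
    show (r : F[X]) • y.1 ∈ UR
    rw [← ht, ← hv, smul_of_eq, map_mul, Module.End.mul_apply]
    exact memUR.mpr (aeval_mem φ hU t (memZR.mp (hv ▸ y.2) : v ∈ Zt))
  -- the map `f (φ + T)` on `zTilde`
  let T0 : commRad φ U f → (ZR →ₗ[F[X]] UR) := fun T =>
    { toFun := fun y => ⟨AEval'.of φ (aeval φ f ((AEval'.of φ).symm y.1) +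
          aeval φ (derivative f) (T.1 ((AEval'.of φ).symm y.1))), by
        have hy : (AEval'.of φ).symm y.1 ∈ Zt :=
          memZR.mp (by rw [LinearEquiv.apply_symm_apply]; exact y.2)
        exact memUR.mpr (U.add_mem hy (aeval_mem φ hU _ (T.2.1.1 _)))⟩
      map_add' := fun a b => Subtype.ext (by
        simp only [Submodule.coe_add, map_add]; abel)
      map_smul' := fun r y => Subtype.ext (by
        obtain ⟨v, hv⟩ := (AEval'.of φ).surjective y.1
        have hvZ : v ∈ Zt := memZR.mp (hv ▸ y.2)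
        simp only [RingHom.id_apply, SetLike.val_smul, ← hv, smul_of_eq,
          LinearEquiv.symm_apply_apply]
        rw [comm_aeval hU T.2 r hvZ]
        simp only [← Module.End.mul_apply, ← map_mul, ← mul_assoc, map_add, mul_comm r]) }
  have hW0 : ∀ T, W ≤ LinearMap.ker (T0 T) := fun T y hy => by
    obtain ⟨v, hv⟩ := (AEval'.of φ).surjective y.1
    have hvU : v ∈ U := memUR.mp (hv ▸ (hy : y.1 ∈ UR))
    refine Subtype.ext ?_
    show AEval'.of φ (aeval φ f ((AEval'.of φ).symm y.1) +
      aeval φ (derivative f) (T.1 ((AEval'.of φ).symm y.1))) = 0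
    rw [← hv, LinearEquiv.symm_apply_apply, hkill v hvU, T.2.1.2 v hvU, map_zero, add_zero, map_zero]
  let Ψ : commRad φ U f → ((ZR ⧸ W) →ₗ[F[X]] UR) := fun T => W.liftQ (T0 T) (hW0 T)
  have hΨ : ∀ (T : commRad φ U f) (y : ZR), Ψ T (Submodule.Quotient.mk y) = T0 T y := fun _ _ => rfl
  have hΨadd : ∀ T D, Ψ (T + D) + Ψ 0 = Ψ T + Ψ D := fun T D => by
    refine Submodule.linearMap_qext _ (LinearMap.ext fun y => Subtype.ext ?_)
    simp only [LinearMap.comp_apply, Submodule.mkQ_apply, LinearMap.add_apply, hΨ, Submodule.coe_add]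
    show AEval'.of φ (aeval φ f ((AEval'.of φ).symm y.1) +
      aeval φ (derivative f) ((T + D : commRad φ U f).1 ((AEval'.of φ).symm y.1))) +
      AEval'.of φ (aeval φ f ((AEval'.of φ).symm y.1) +
      aeval φ (derivative f) ((0 : commRad φ U f).1 ((AEval'.of φ).symm y.1))) =
      AEval'.of φ (aeval φ f ((AEval'.of φ).symm y.1) +
      aeval φ (derivative f) (T.1 ((AEval'.of φ).symm y.1))) +
      AEval'.of φ (aeval φ f ((AEval'.of φ).symm y.1) +
      aeval φ (derivative f) (D.1 ((AEval'.of φ).symm y.1)))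
    simp only [AddSubgroup.coe_add, LinearMap.add_apply, map_add, ZeroMemClass.coe_zero,
      LinearMap.zero_apply, map_zero, add_zero]
    abel
  have hsurj : Function.Surjective Ψ := by
    intro χ
    obtain ⟨a, b, hab⟩ := hsep
    let ψ : (ZR ⧸ W) →ₗ[F[X]] UR := b • (χ - Ψ 0)
    let h : Zt →ₗ[F] V := (AEval'.of φ).symm.toLinearMap.comp
      ((UR.subtype.restrictScalars F).comp ((ψ.comp W.mkQ).restrictScalars F |>.comp
        ({ toFun := fun v => ⟨AEval'.of φ v.1, memZR.mpr v.2⟩
           map_add' := fun _ _ => Subtype.ext (map_add _ _ _)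
           map_smul' := fun c v => Subtype.ext (map_smul (AEval'.of φ) c v.1) } : Zt →ₗ[F] ZR)))
    have hhmem : ∀ v, h v ∈ U := fun v => memUR.mp (by
      show AEval'.of φ ((AEval'.of φ).symm _) ∈ UR
      rw [LinearEquiv.apply_symm_apply]
      exact Subtype.prop _)
    obtain ⟨g, hg⟩ := (h.codRestrict U hhmem).exists_extend
    have hgv : ∀ (v : V) (hv : v ∈ Zt), AEval'.of φ (g v : V) =
        (ψ (Submodule.Quotient.mk ⟨AEval'.of φ v, memZR.mpr hv⟩) : AEval' φ) := fun v hv => by
      have h1 : (g v : V) = h ⟨v, hv⟩ := congrArg Subtype.val (LinearMap.congr_fun hg ⟨v, hv⟩)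
      rw [h1]
      exact (AEval'.of φ).apply_symm_apply _
    have hT : U.subtype.comp g ∈ commRad φ U f := by
      refine ⟨⟨fun v => (g v).2, fun u hu => ?_⟩, fun v hv => ?_⟩
      · apply (AEval'.of φ).injective
        rw [map_zero]
        show AEval'.of φ (g u : V) = 0
        rw [hgv u (le_zTilde hU f hu)]
        have : (Submodule.Quotient.mk ⟨AEval'.of φ u, memZR.mpr (le_zTilde hU f hu)⟩ : ZR ⧸ W) = 0 :=
          (Submodule.Quotient.mk_eq_zero W).mpr (memUR.mpr hu)
        rw [this, map_zero, ZeroMemClass.coe_zero]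
      · apply (AEval'.of φ).injective
        show AEval'.of φ (g (φ v) : V) = AEval'.of φ (φ (g v : V))
        rw [← AEval'.X_smul_of, hgv _ (zTilde_invariant hU f hv), hgv v hv, ← Submodule.coe_smul,
          ← map_smul, ← Submodule.Quotient.mk_smul]
        congr 3
        exact Subtype.ext (AEval'.X_smul_of φ v).symm
    refine ⟨⟨_, hT⟩, Submodule.linearMap_qext _ (LinearMap.ext fun y => ?_)⟩
    simp only [LinearMap.comp_apply, Submodule.mkQ_apply, hΨ]
    obtain ⟨v, hv⟩ := (AEval'.of φ).surjective y.1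
    have hvZ : v ∈ Zt := memZR.mp (hv ▸ y.2)
    have hy : y = ⟨AEval'.of φ v, memZR.mpr hvZ⟩ := Subtype.ext hv.symm
    set z : ZR ⧸ W := Submodule.Quotient.mk y with hz
    have h1 : T0 ⟨_, hT⟩ y = Ψ 0 z + derivative f • ψ z := by
      refine Subtype.ext ?_
      rw [hΨ, Submodule.coe_add, Submodule.coe_smul, hz, hy, ← hgv v hvZ, smul_of_eq]
      show AEval'.of φ (aeval φ f ((AEval'.of φ).symm (AEval'.of φ v)) +
        aeval φ (derivative f) (g ((AEval'.of φ).symm (AEval'.of φ v)) : V)) =
        AEval'.of φ (aeval φ f ((AEval'.of φ).symm (AEval'.of φ v)) +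
        aeval φ (derivative f) ((0 : commRad φ U f).1 ((AEval'.of φ).symm (AEval'.of φ v)))) +
        AEval'.of φ (aeval φ (derivative f) (g v : V))
      simp only [LinearEquiv.symm_apply_apply, ZeroMemClass.coe_zero, LinearMap.zero_apply, map_zero,
        add_zero, map_add]
    rw [h1]
    have h2 : derivative f • ψ z = χ z - Ψ 0 z := by
      simp only [ψ, LinearMap.smul_apply, LinearMap.sub_apply, smul_smul]
      have h3 : ∀ w : UR, (derivative f * b) • w = w := fun w => by
        have : derivative f * b = 1 - a * f := by rw [← hab]; ring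
        have h0 : (a * f) • w = 0 :=
          @hUt w ⟨a * f, Ideal.mul_mem_left _ a (Ideal.mem_span_singleton_self f)⟩
        rw [this]
        refine (sub_smul (1 : F[X]) (a * f) w).trans ?_
        rw [h0, sub_zero]
        exact one_smul F[X] w
      exact h3 _
    rw [h2, add_sub_cancel]
  -- kernels
  have hker : ∀ T : commRad φ U f, Nat.card (LinearMap.ker (aeval (φ + T.1) f)) =
      Nat.card UR * Nat.card (LinearMap.ker (Ψ T)) := by
    intro T
    have h1 : Nat.card (LinearMap.ker (aeval (φ + T.1) f)) = Nat.card (LinearMap.ker (T0 T)) := by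
      have hmem : ∀ v, v ∈ LinearMap.ker (aeval (φ + T.1) f) → v ∈ Zt := fun v hv => by
        rw [hZt, ← zTilde_add hU T.2.1 f, zTilde, Submodule.mem_comap, LinearMap.mem_ker.mp hv]
        exact U.zero_mem
      refine Nat.card_congr
        { toFun := fun v => ⟨⟨AEval'.of φ v.1, memZR.mpr (hmem v.1 v.2)⟩, Subtype.ext ?_⟩
          invFun := fun y => ⟨(AEval'.of φ).symm y.1.1, ?_⟩
          left_inv := fun v => Subtype.ext ((AEval'.of φ).symm_apply_apply v.1)
          right_inv := fun y => Subtype.ext (Subtype.ext ((AEval'.of φ).apply_symm_apply y.1.1)) }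
      · show AEval'.of φ (aeval φ f ((AEval'.of φ).symm (AEval'.of φ v.1)) +
          aeval φ (derivative f) (T.1 ((AEval'.of φ).symm (AEval'.of φ v.1)))) = 0
        rw [LinearEquiv.symm_apply_apply, ← aeval_add_deriv hU T.2 f (hmem v.1 v.2),
          LinearMap.mem_ker.mp v.2, map_zero]
      · have hyZ : (AEval'.of φ).symm y.1.1 ∈ Zt :=
          memZR.mp (by rw [LinearEquiv.apply_symm_apply]; exact y.1.2)
        rw [LinearMap.mem_ker, aeval_add_deriv hU T.2 f hyZ]
        exact (LinearEquiv.map_eq_zero_iff _).mp (congrArg Subtype.val (LinearMap.mem_ker.mp y.2))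
    have h2 := Submodule.card_eq_card_quotient_mul_card (LinearMap.ker (T0 T))
    have h3 := Submodule.card_eq_card_quotient_mul_card (LinearMap.ker (Ψ T))
    have h4 := Submodule.card_eq_card_quotient_mul_card W
    rw [Nat.card_congr (T0 T).quotKerEquivRange.toEquiv] at h2
    rw [Nat.card_congr (Ψ T).quotKerEquivRange.toEquiv] at h3
    have h5 : LinearMap.range (Ψ T) = LinearMap.range (T0 T) := W.range_liftQ (T0 T) (hW0 T)
    rw [h5] at h3
    have h6 : Nat.card W = Nat.card UR := Nat.card_congr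
      (Submodule.comapSubtypeEquivOfLe (p := UR) (q := ZR) fun x hx => by
        obtain ⟨v, rfl⟩ := (AEval'.of φ).surjective x
        exact memZR.mpr (le_zTilde hU f (memUR.mp hx))).toEquiv
    have hpos : 0 < Nat.card (LinearMap.range (T0 T)) := Nat.card_pos
    rw [h1]
    refine Nat.eq_of_mul_eq_mul_left hpos ?_
    nlinarith [h2, h3, h4, h6]
  have : Nontrivial UR := Submodule.nontrivial_iff_ne_bot.mpr fun h => by
    apply hbot
    rw [← toF_toR φ U hU, show toR φ U hU = ⊥ from h, toF_bot]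
  have : Nontrivial (ZR ⧸ W) := by
    rw [Submodule.Quotient.nontrivial_iff]
    intro hWtop
    apply htop
    rw [eq_top_iff]
    intro v _
    obtain ⟨k, hk⟩ := hp
    have key : ∀ j (w : V), aeval φ (f ^ j) w ∈ U → w ∈ U := by
      intro j
      induction j with
      | zero => intro w hw; simpa using hw
      | succ j ih =>
        intro w hw
        rw [pow_succ', map_mul, Module.End.mul_apply] at hw
        refine ih w (memUR.mp ?_)
        have := hWtop.ge (Submodule.mem_top :
          (⟨AEval'.of φ (aeval φ (f ^ j) w), memZR.mpr hw⟩ : ZR) ∈ ⊤)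
        exact this
    exact key k v (by rw [map_pow, hk, LinearMap.zero_apply]; exact U.zero_mem)
  have : Finite (ZR ⧸ W) := Finite.of_surjective _ W.mkQ_surjective
  have : Finite ((ZR ⧸ W) →ₗ[F[X]] UR) := Finite.of_injective _ DFunLike.coe_injective
  have := Fintype.ofFinite ((ZR ⧸ W) →ₗ[F[X]] UR)
  have hfib : ∀ χ χ', (Finset.univ.filter fun T => Ψ T = χ).card =
      (Finset.univ.filter fun T => Ψ T = χ').card := by
    intro χ χ'
    obtain ⟨D, hD⟩ := hsurj (χ' - χ + Ψ 0)
    refine Finset.card_equiv (Equiv.addRight D) fun T => ?_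
    simp only [Finset.mem_filter, Finset.mem_univ, true_and, Equiv.coe_addRight]
    have h := hΨadd T D
    rw [hD] at h
    constructor
    · intro e
      rw [e] at h
      calc Ψ (T + D) = Ψ (T + D) + Ψ 0 - Ψ 0 := by abel
        _ = χ' := by rw [h]; abel
    · intro e
      rw [e] at h
      calc Ψ T = Ψ T + (χ' - χ + Ψ 0) - (χ' - χ + Ψ 0) := by abel
        _ = χ := by rw [← h]; abel
  set Q := Nat.card (F[X] ⧸ I)
  rw [Finset.sum_congr rfl fun T _ => by rw [hker T]]
  rw [← Finset.sum_fiberwise (s := Finset.univ) (g := Ψ)]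
  have hz : ∀ χ, ∑ T ∈ Finset.univ.filter (fun T => Ψ T = χ),
      gprod Q (Nat.log Q (Nat.card UR * Nat.card (LinearMap.ker (Ψ T)))) =
      ((Finset.univ.filter fun T => Ψ T = (0 : (ZR ⧸ W) →ₗ[F[X]] UR)).card : ℤ) *
        gprod Q (Nat.log Q (Nat.card UR * Nat.card (LinearMap.ker χ))) := fun χ => by
    rw [Finset.sum_congr rfl
      (g := fun _ => gprod Q (Nat.log Q (Nat.card UR * Nat.card (LinearMap.ker χ))))
      (fun T hT => by rw [(Finset.mem_filter.mp hT).2]), Finset.sum_const, nsmul_eq_mul, hfib χ 0]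
  rw [Finset.sum_congr rfl fun χ _ => hz χ, ← Finset.mul_sum, sum_hom_eq_zero I hQt hUt, mul_zero]

theorem sum_translates (hU : U ≤ U.comap φ) (hbot : U ≠ ⊥) (htop : U ≠ ⊤) {f : F[X]}
    (hf : Irreducible f) (hsep : f.Separable) (hfm : f.Monic) (hp : IsPrim φ f)
    (hkill : ∀ u ∈ U, aeval φ f u = 0) [Fintype (radEnd U)] :
    ∑ T : radEnd U, gprod (Nat.card (F[X] ⧸ Ideal.span {f}))
      (Nat.log (Nat.card (F[X] ⧸ Ideal.span {f}))
        (Nat.card (LinearMap.ker (aeval (φ + T.1) f)))) = 0 := by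
  classical
  have := Fintype.ofFinite (commRad φ U f)
  set c : Module.End F V → ℤ := fun g => gprod (Nat.card (F[X] ⧸ Ideal.span {f}))
      (Nat.log (Nat.card (F[X] ⧸ Ideal.span {f})) (Nat.card (LinearMap.ker (aeval g f)))) with hc
  show ∑ T : radEnd U, c (φ + T.1) = 0
  have h1 : ∑ T0 : commRad φ U f, ∑ T : radEnd U, c (φ + T.1 + T0.1) = 0 := by
    rw [Finset.sum_comm]
    refine Finset.sum_eq_zero fun T _ => ?_
    have := Fintype.ofFinite (commRad (φ + T.1) U f)
    have h := sum_commRad (φ := φ + T.1) (add_invariant hU T.2) hbot htop hf hsep hfm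
      (isPrim_add hU T.2 hp) fun u hu => by rw [aeval_add_on hU T.2 f hu]; exact hkill u hu
    refine Eq.trans ?_ h
    exact Fintype.sum_equiv (Equiv.subtypeEquivRight fun z => by rw [commRad_add hU T.2]) _ _
      (fun _ => rfl)
  have h2 : ∀ T0 : commRad φ U f, ∑ T : radEnd U, c (φ + T.1 + T0.1) = ∑ T : radEnd U, c (φ + T.1) :=
    fun T0 => Fintype.sum_equiv (Equiv.addRight (⟨T0.1, T0.2.1⟩ : radEnd U)) _ _
      (fun T => by simp [add_assoc])
  rw [Finset.sum_congr rfl fun T0 _ => h2 T0, Finset.sum_const, smul_eq_zero] at h1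
  exact h1.resolve_left Fintype.card_ne_zero

end CfsgLib.Cuspidal
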