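import Cfsg.Agent.Lib.Cuspidal.SocleSum
import Mathlib.Algebra.Polynomial.Module.AEval

/-!
# Invariant subspaces of an endomorphism and their Moebius function

* `toF`: the subspace of a submodule of `AEval' φ`;
* `muG`: the Moebius function of the lattice of invariant subspaces, with its recursion;
* `IsPrim`: primary endomorphisms, and the annihilators of atoms.
-/

set_option autoImplicit false

noncomputable section

namespace CfsgLib.Cuspidal

open Polynomial Module

variable {F V : Type*} [Field F] [AddCommGroup V] [Module F V] (φ ψ : Module.End F V)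

instance instFiniteAEval [Finite V] : Finite (AEval' φ) := Finite.of_equiv V (AEval'.of φ).toEquiv

theorem smul_of_eq (p : F[X]) (v : V) : p • AEval'.of φ v = AEval'.of φ (aeval φ p v) :=
  (AEval.of_aeval_smul φ p v).symm

/-- The subspace of a submodule of `AEval' φ`. -/
def toF (S : Submodule F[X] (AEval' φ)) : Submodule F V :=
  (S.restrictScalars F).comap (AEval'.of φ).toLinearMap

theorem mem_toF {S : Submodule F[X] (AEval' φ)} {v : V} : v ∈ toF φ S ↔ AEval'.of φ v ∈ S := Iff.rfl

theorem toF_invariant (S : Submodule F[X] (AEval' φ)) : toF φ S ≤ (toF φ S).comap φ := fun v hv => by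
  rw [Submodule.mem_comap, mem_toF, ← AEval'.X_smul_of]
  exact S.smul_mem X ((mem_toF φ).mp hv)

theorem aeval_mem {U : Submodule F V} (h : U ≤ U.comap φ) (p : F[X]) {v : V} (hv : v ∈ U) :
    aeval φ p v ∈ U := by
  induction p using Polynomial.induction_on' generalizing v with
  | add a b ha hb => rw [map_add]; exact U.add_mem (ha hv) (hb hv)
  | monomial k c =>
    rw [aeval_monomial, Module.End.mul_apply, Module.algebraMap_end_apply]
    refine U.smul_mem c ?_
    induction k with
    | zero => simpa using hv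
    | succ k ih => rw [pow_succ', Module.End.mul_apply]; exact h ih

/-- The submodule of an invariant subspace. -/
def toR (U : Submodule F V) (h : U ≤ U.comap φ) : Submodule F[X] (AEval' φ) where
  carrier := AEval'.of φ '' U
  zero_mem' := ⟨0, U.zero_mem, map_zero _⟩
  add_mem' := by
    rintro _ _ ⟨a, ha, rfl⟩ ⟨b, hb, rfl⟩
    exact ⟨a + b, U.add_mem ha hb, map_add _ _ _⟩
  smul_mem' := by
    rintro p _ ⟨a, ha, rfl⟩
    exact ⟨aeval φ p a, aeval_mem φ h p ha, (smul_of_eq φ p a).symm⟩

theorem toF_toR (U : Submodule F V) (h : U ≤ U.comap φ) : toF φ (toR φ U h) = U := by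
  ext v
  exact (AEval'.of φ).injective.mem_set_image

theorem toF_le_iff {S T : Submodule F[X] (AEval' φ)} : toF φ S ≤ toF φ T ↔ S ≤ T := by
  refine ⟨fun h x hx => ?_, fun h v hv => h hv⟩
  obtain ⟨v, rfl⟩ := (AEval'.of φ).surjective x
  exact h hx

theorem toF_injective : Function.Injective (toF φ) := fun _ _ h =>
  le_antisymm ((toF_le_iff φ).mp h.le) ((toF_le_iff φ).mp h.ge)

theorem toF_bot : toF φ ⊥ = ⊥ := by
  ext v
  rw [mem_toF, Submodule.mem_bot, LinearEquiv.map_eq_zero_iff, Submodule.mem_bot]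

theorem toF_top : toF φ ⊤ = ⊤ := by ext v; simp [mem_toF]

theorem toF_sup (S T : Submodule F[X] (AEval' φ)) : toF φ (S ⊔ T) = toF φ S ⊔ toF φ T := by
  refine le_antisymm (fun v hv => ?_)
    (sup_le ((toF_le_iff φ).mpr le_sup_left) ((toF_le_iff φ).mpr le_sup_right))
  obtain ⟨a, ha, b, hb, he⟩ := Submodule.mem_sup.mp ((mem_toF φ).mp hv)
  obtain ⟨a', rfl⟩ := (AEval'.of φ).surjective a
  obtain ⟨b', rfl⟩ := (AEval'.of φ).surjective b
  rw [← map_add] at he
  exact Submodule.mem_sup.mpr ⟨a', ha, b', hb, (AEval'.of φ).injective he⟩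

theorem toF_disjoint {S T : Submodule F[X] (AEval' φ)} (h : Disjoint S T) :
    Disjoint (toF φ S) (toF φ T) := Submodule.disjoint_def.mpr fun v hv hv' =>
  (LinearEquiv.map_eq_zero_iff _).mp (Submodule.disjoint_def.mp h _ hv hv')

theorem card_toF (S : Submodule F[X] (AEval' φ)) : Nat.card (toF φ S) = Nat.card S :=
  Nat.card_congr ((AEval'.of φ).toEquiv.subtypeEquiv fun _ => Iff.rfl)

variable [Finite V]

/-- The invariant subspaces. -/
def invSet : Finset (Submodule F V) := (Set.toFinite {U : Submodule F V | U ≤ U.comap φ}).toFinset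

theorem mem_invSet {U : Submodule F V} : U ∈ invSet φ ↔ U ≤ U.comap φ := by simp [invSet]

theorem invSet_eq [Fintype (Submodule F[X] (AEval' φ))] :
    invSet φ = Finset.univ.map ⟨toF φ, toF_injective φ⟩ := by
  ext U
  rw [mem_invSet, Finset.mem_map]
  constructor
  · exact fun h => ⟨toR φ U h, Finset.mem_univ _, toF_toR φ U h⟩
  · rintro ⟨S, -, rfl⟩
    exact toF_invariant φ S

open Classical in
/-- The Moebius function of the lattice of invariant subspaces. -/
def muG (U : Submodule F V) : ℤ := if h : U ≤ U.comap φ then mu (toR φ U h) else 0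

theorem muG_toF (S : Submodule F[X] (AEval' φ)) : muG φ (toF φ S) = mu S := by
  rw [muG, dif_pos (toF_invariant φ S)]
  congr 1
  exact toF_injective φ (toF_toR φ _ _)

theorem sum_muG {U : Submodule F V} (hU : U ≤ U.comap φ) [DecidableEq (Submodule F V)]
    [DecidableRel (· ≤ · : Submodule F V → Submodule F V → Prop)] :
    ∑ U' ∈ (invSet φ).filter (· ≤ U), muG φ U' = if U = ⊥ then 1 else 0 := by
  classical
  have := Fintype.ofFinite (Submodule F[X] (AEval' φ))
  obtain ⟨S, rfl⟩ : ∃ S, toF φ S = U := ⟨_, toF_toR φ U hU⟩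
  rw [invSet_eq, Finset.filter_map, Finset.sum_map]
  simp only [Function.Embedding.coeFn_mk, muG_toF]
  rw [sum_mu S _ (fun T => by simp [toF_le_iff])]
  by_cases h : S = ⊥
  · rw [if_pos h, if_pos (by rw [h, toF_bot])]
  · rw [if_neg h, if_neg fun h' => h (toF_injective φ (h'.trans (toF_bot φ).symm))]

theorem muG_bot : muG φ ⊥ = 1 := by rw [← toF_bot φ, muG_toF, mu_bot]

theorem muG_eq {U : Submodule F V} (hU : U ≤ U.comap φ) (hne : U ≠ ⊥)
    [DecidableRel (· < · : Submodule F V → Submodule F V → Prop)] :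
    muG φ U = -∑ U' ∈ (invSet φ).filter (· < U), muG φ U' := by
  classical
  have h := sum_muG φ hU
  rw [if_neg hne, ← Finset.add_sum_erase _ _ ((Finset.mem_filter (p := (· ≤ U))).mpr ⟨(mem_invSet φ).mpr hU, le_rfl⟩)] at h
  have he : ((invSet φ).filter (· ≤ U)).erase U = (invSet φ).filter (· < U) := by
    ext W
    simp only [Finset.mem_erase, Finset.mem_filter, lt_iff_le_and_ne]
    tauto
  rw [he] at h
  exact eq_neg_of_add_eq_zero_left h

theorem muG_congr (U : Submodule F V) : U ≤ U.comap φ → (∀ v ∈ U, φ v = ψ v) →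
    muG φ U = muG ψ U := by
  classical
  induction U using (wellFounded_lt (α := Submodule F V)).induction with
  | _ U ih =>
  intro hU hv
  have hU' : U ≤ U.comap ψ := fun v h => by rw [Submodule.mem_comap, ← hv v h]; exact hU h
  by_cases h0 : U = ⊥
  · rw [h0, muG_bot, muG_bot]
  · rw [muG_eq φ hU h0, muG_eq ψ hU' h0, neg_inj]
    refine Finset.sum_congr (Finset.ext fun W => ?_) fun W hW => ?_
    · simp only [Finset.mem_filter, mem_invSet]
      refine and_congr_left fun hlt => ?_
      refine ⟨fun h w hw => ?_, fun h w hw => ?_⟩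
      · rw [Submodule.mem_comap, ← hv w (hlt.le hw)]; exact h hw
      · rw [Submodule.mem_comap, hv w (hlt.le hw)]; exact h hw
    · simp only [Finset.mem_filter, mem_invSet] at hW
      refine ih W hW.2 (fun w hw => ?_) fun w hw => hv w (hW.2.le hw)
      rw [Submodule.mem_comap, hv w (hW.2.le hw)]; exact hW.1 hw

omit [Finite V] in
theorem invariant_conj_iff (e : V ≃ₗ[F] V) (U : Submodule F V) :
    U.map (e : V →ₗ[F] V) ≤ (U.map (e : V →ₗ[F] V)).comap (e.conj φ) ↔ U ≤ U.comap φ := by
  constructor
  · intro h v hv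
    obtain ⟨w, hw, he⟩ := h ⟨v, hv, rfl⟩
    have he' : e w = e (φ v) := he.trans (by simp [LinearEquiv.conj_apply_apply])
    rwa [Submodule.mem_comap, ← e.injective he']
  · rintro h _ ⟨v, hv, rfl⟩
    exact ⟨φ v, h hv, by simp [LinearEquiv.conj_apply_apply]⟩

theorem muG_conj (e : V ≃ₗ[F] V) (U : Submodule F V) :
    muG (e.conj φ) (U.map (e : V →ₗ[F] V)) = muG φ U := by
  classical
  induction U using (wellFounded_lt (α := Submodule F V)).induction with
  | _ U ih =>
  by_cases hU : U ≤ U.comap φ
  swap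
  · rw [muG, muG, dif_neg hU, dif_neg fun h => hU ((invariant_conj_iff φ e U).mp h)]
  by_cases h0 : U = ⊥
  · rw [h0, Submodule.map_bot, muG_bot, muG_bot]
  · let E : Submodule F V ≃o Submodule F V := Submodule.orderIsoMapComap e
    have hE : ∀ W, E W = W.map (e : V →ₗ[F] V) := fun W => rfl
    rw [muG_eq _ ((invariant_conj_iff φ e U).mpr hU) (by simpa using h0), muG_eq φ hU h0, neg_inj]
    refine (Finset.sum_bij (fun W _ => E W) (fun W hW => ?_) (fun _ _ _ _ h => E.injective h)
      (fun W hW => ?_) fun W hW => ?_).symm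
    · simp only [Finset.mem_filter, mem_invSet] at hW ⊢
      exact ⟨(invariant_conj_iff φ e W).mpr hW.1, E.lt_iff_lt.mpr hW.2⟩
    · simp only [Finset.mem_filter, mem_invSet] at hW
      have hW' : W = E (E.symm W) := (E.apply_symm_apply W).symm
      refine ⟨E.symm W, ?_, E.apply_symm_apply W⟩
      simp only [Finset.mem_filter, mem_invSet]
      refine ⟨(invariant_conj_iff φ e _).mp ?_, E.lt_iff_lt.mp ?_⟩
      · rw [← hE, ← hW']; exact hW.1
      · rw [← hW']; exact hW.2
    · simp only [Finset.mem_filter] at hW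
      exact (ih W hW.2).symm

/-- `φ` is primary of type `f`. -/
def IsPrim (f : F[X]) : Prop := ∃ k, aeval φ f ^ k = 0

theorem card_quotient_span (f : F[X]) (hf : f.Monic) :
    Nat.card (F[X] ⧸ Ideal.span {f}) = Nat.card F ^ f.natDegree := by
  have : Module.Finite F (F[X] ⧸ Ideal.span {f}) := hf.finite_quotient
  rw [Module.natCard_eq_pow_finrank (K := F), finrank_quotient_span_eq_natDegree]

theorem span_isMaximal {f : F[X]} (hf : Irreducible f) : (Ideal.span {f}).IsMaximal :=
  PrincipalIdealRing.isMaximal_of_irreducible hf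

theorem exists_ann {L : Submodule F[X] (AEval' φ)} (hL : IsAtom L) :
    ∃ f : F[X], Irreducible f ∧ f.Monic ∧ L.annihilator = Ideal.span {f} := by
  classical
  have hmax := ann_isMaximal hL
  have hmem : minpoly F φ ∈ L.annihilator := by
    refine Submodule.mem_annihilator.mpr fun x _ => ?_
    obtain ⟨v, rfl⟩ := (AEval'.of φ).surjective x
    rw [smul_of_eq, minpoly.aeval, LinearMap.zero_apply, map_zero]
  have : FiniteDimensional F V := Module.Finite.of_finite
  have hne : L.annihilator ≠ ⊥ := fun h =>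
    minpoly.ne_zero (Algebra.IsIntegral.isIntegral φ) ((Submodule.mem_bot F[X]).mp (h ▸ hmem))
  obtain ⟨g, hg⟩ := (IsPrincipalIdealRing.principal L.annihilator).principal
  have hg' : L.annihilator = Ideal.span {g} := hg
  have hg0 : g ≠ 0 := fun h => hne (by rw [hg', h, Ideal.span_singleton_eq_bot])
  have hprime : Prime g := (Ideal.span_singleton_prime hg0).mp (hg' ▸ hmax.isPrime)
  refine ⟨normalize g, (associated_normalize g).irreducible hprime.irreducible,
    monic_normalize hg0, hg'.trans ?_⟩
  exact Ideal.span_singleton_eq_span_singleton.mpr (associated_normalize g)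

omit [Finite V] in
theorem ann_eq_of_prim {f : F[X]} (hf : Irreducible f) (hp : IsPrim φ f)
    {L : Submodule F[X] (AEval' φ)} (hL : IsAtom L) : L.annihilator = Ideal.span {f} := by
  obtain ⟨k, hk⟩ := hp
  have hmax := ann_isMaximal hL
  refine ((span_isMaximal hf).eq_of_le hmax.ne_top ?_).symm
  rw [Ideal.span_singleton_le_iff_mem]
  refine hmax.isPrime.mem_of_pow_mem k (Submodule.mem_annihilator.mpr fun x _ => ?_)
  obtain ⟨v, rfl⟩ := (AEval'.of φ).surjective x
  rw [smul_of_eq, map_pow, hk, LinearMap.zero_apply, map_zero]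

omit [Finite V] in
theorem kills_of_soc {S : Submodule F[X] (AEval' φ)} (hS : soc S = S) {r : F[X]}
    (h : ∀ L : Submodule F[X] (AEval' φ), IsAtom L → L ≤ S → r ∈ L.annihilator) :
    ∀ v ∈ toF φ S, aeval φ r v = 0 := by
  intro v hv
  have hle : S ≤ Submodule.torsionBy F[X] (AEval' φ) r := by
    rw [← hS]
    exact sSup_le fun L hL x hx => Submodule.mem_annihilator.mp (h L hL.1 hL.2) x hx
  have h1 := hle ((mem_toF φ).mp hv)
  rw [Submodule.mem_torsionBy_iff, smul_of_eq] at h1
  exact (LinearEquiv.map_eq_zero_iff _).mp h1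

omit [Finite V] in
theorem soc_of_killed {f : F[X]} (hf : Irreducible f) {S : Submodule F[X] (AEval' φ)}
    (h : ∀ v ∈ toF φ S, aeval φ f v = 0) : soc S = S := by
  refine le_antisymm (soc_le S) fun x hx => ?_
  obtain ⟨v, rfl⟩ := (AEval'.of φ).surjective x
  by_cases h0 : AEval'.of φ v = 0
  · rw [h0]; exact zero_mem _
  have hk : ∀ r ∈ Ideal.span {f}, r • AEval'.of φ v = 0 := by
    intro r hr
    obtain ⟨t, rfl⟩ := Ideal.mem_span_singleton'.mp hr
    rw [mul_smul, smul_of_eq φ f, h v hx, map_zero, smul_zero]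
  exact le_soc (atom_span (span_isMaximal hf) h0 hk).1
    ((Submodule.span_singleton_le_iff_mem _ _).mpr hx) (Submodule.mem_span_singleton_self _)

omit [Finite V] in
theorem toF_soc_top {f : F[X]} (hf : Irreducible f) (hp : IsPrim φ f) :
    toF φ (soc ⊤) = LinearMap.ker (aeval φ f) := by
  refine le_antisymm (fun v hv => ?_) ?_
  · exact kills_of_soc φ (soc_idem ⊤)
      (fun L hL _ => by rw [ann_eq_of_prim φ hf hp hL]; exact Ideal.mem_span_singleton_self f) v hv
  · have hinv : LinearMap.ker (aeval φ f) ≤ (LinearMap.ker (aeval φ f)).comap φ := fun v hv => by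
      rw [Submodule.mem_comap, LinearMap.mem_ker]
      have hc : aeval φ f * φ = φ * aeval φ f := by
        simpa using congrArg (aeval φ) (mul_comm f X)
      rw [← Module.End.mul_apply, hc, Module.End.mul_apply, LinearMap.mem_ker.mp hv, map_zero]
    have hsoc : soc (toR φ _ hinv) = toR φ _ hinv := soc_of_killed φ hf fun v hv => by
      rw [toF_toR] at hv
      exact hv
    calc LinearMap.ker (aeval φ f) = toF φ (toR φ _ hinv) := (toF_toR φ _ hinv).symm
      _ ≤ toF φ (soc ⊤) := (toF_le_iff φ).mpr (hsoc.ge.trans (soc_mono le_top))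

theorem exists_two_types [Nontrivial V] (h : ∀ f : F[X], Irreducible f → f.Monic → ¬ IsPrim φ f) :
    ∃ L L' : Submodule F[X] (AEval' φ), IsAtom L ∧ IsAtom L' ∧ L.annihilator ≠ L'.annihilator := by
  classical
  have : FiniteDimensional F V := Module.Finite.of_finite
  have : Nontrivial (AEval' φ) := (AEval'.of φ).toEquiv.nontrivial_congr.mp ‹_›
  obtain ⟨L, hL, -⟩ := (IsAtomic.eq_bot_or_exists_atom_le
    (⊤ : Submodule F[X] (AEval' φ))).resolve_left (fun e => top_ne_bot e)
  obtain ⟨f, hf, hfm, hann⟩ := exists_ann φ hL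
  have hint : IsIntegral F φ := Algebra.IsIntegral.isIntegral φ
  have hm0 : minpoly F φ ≠ 0 := minpoly.ne_zero hint
  obtain ⟨g, hg, hgf⟩ : ∃ g ∈ UniqueFactorizationMonoid.normalizedFactors (minpoly F φ), g ≠ f := by
    by_contra hall
    push Not at hall
    apply h f hf hfm
    refine ⟨(UniqueFactorizationMonoid.normalizedFactors (minpoly F φ)).card, ?_⟩
    obtain ⟨u, hu⟩ := UniqueFactorizationMonoid.prod_normalizedFactors hm0
    rw [Multiset.eq_replicate_card.mpr hall, Multiset.prod_replicate] at hu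
    have h1 := minpoly.aeval F φ
    rw [← hu, map_mul, map_pow] at h1
    exact (IsUnit.mul_left_eq_zero (u.isUnit.map (aeval φ))).mp h1
  have hgi := UniqueFactorizationMonoid.irreducible_of_normalized_factor g hg
  have hgm : g.Monic := by
    rw [← UniqueFactorizationMonoid.normalize_normalized_factor g hg]
    exact monic_normalize hgi.ne_zero
  obtain ⟨c, hc⟩ := UniqueFactorizationMonoid.dvd_of_mem_normalizedFactors hg
  have hcne : aeval φ c ≠ 0 := by
    intro h0
    have hc0 : c ≠ 0 := fun e => hm0 (by rw [hc, e, mul_zero])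
    have := natDegree_le_of_dvd (minpoly.dvd F φ h0) hc0
    have h2 := hgi.natDegree_pos
    rw [hc, natDegree_mul hgi.ne_zero hc0] at this
    omega
  obtain ⟨w, hw⟩ : ∃ w, aeval φ c w ≠ 0 := not_forall.mp fun h' => hcne (LinearMap.ext h')
  have hk : ∀ r ∈ Ideal.span {g}, r • AEval'.of φ (aeval φ c w) = 0 := by
    intro r hr
    obtain ⟨t, rfl⟩ := Ideal.mem_span_singleton'.mp hr
    rw [mul_smul, smul_of_eq φ g, ← Module.End.mul_apply, ← map_mul, ← hc, minpoly.aeval,
      LinearMap.zero_apply, map_zero, smul_zero]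
  obtain ⟨hat, hann'⟩ := atom_span (span_isMaximal hgi)
    (fun e => hw ((LinearEquiv.map_eq_zero_iff _).mp e)) hk
  refine ⟨L, _, hL, hat, fun e => hgf ?_⟩
  rw [hann, hann', Ideal.span_singleton_eq_span_singleton] at e
  exact (eq_of_monic_of_associated hfm hgm e).symm

end CfsgLib.Cuspidal
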