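import Cfsg.Agent.Lib.Cuspidal.Norm
import Cfsg.Agent.Lib.Invol.ZStarBasic

/-!
# Cuspidal irreducible characters of `GL n`

`exists_cuspidal`: one for each exponent, and `card_cuspidal`: there are at least `φ (q ^ n - 1) / n`.
-/

set_option autoImplicit false

noncomputable section

namespace CfsgLib.Cuspidal

open Cfsg CfsgLib.Blocks CfsgLib.Modular CfsgLib.Char Polynomial Module
open scoped MatrixGroups

attribute [local instance] CfsgLib.Blocks.resField

variable {M : Ideal AlgInt} [M.IsMaximal] {F : Type*} [Field F] [Fintype F] [DecidableEq F]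
  [Algebra F (Res M)] {n p N m : ℕ}

/-- The cuspidal class function on `GL n`. -/
def chiGL (M : Ideal AlgInt) [M.IsMaximal] [Algebra F (Res M)] (N m : ℕ) (g : GL (Fin n) F) : ℂ :=
  chiE M N m (Matrix.GeneralLinearGroup.toLin g : Module.End F (Fin n → F))

omit [Fintype F] [DecidableEq F] in
theorem toLin_coe (g : GL (Fin n) F) :
    ((Matrix.GeneralLinearGroup.toLin g : LinearMap.GeneralLinearGroup F (Fin n → F)) :
      Module.End F (Fin n → F)) = Matrix.toLin' (g : Matrix (Fin n) (Fin n) F) := rfl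

omit [DecidableEq F] in
theorem value_unipotent (hs : Setup F (Fin n → F) M p N m) [Nontrivial (Fin n → F)]
    {φ : Module.End F (Fin n → F)} (hφ : Function.Injective φ) (h : IsPrim φ (X - C 1)) :
    chiE M N m φ = -(-1) ^ n * (gprod (Fintype.card F)
      (Nat.log (Fintype.card F) (Nat.card (LinearMap.ker (aeval φ (X - C 1 : F[X]))))) : ℂ) := by
  have hx : aeval (1 : Res M) (X - C 1 : F[X]) = 0 := by simp
  rw [chiE_value hs hφ (irreducible_X_sub_C 1) (monic_X_sub_C 1) h hx, natDegree_X_sub_C, pow_one,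
    Module.finrank_fin_fun]
  have ho : orbSum M N F ((1 : Res M) ^ m) 1 = 1 := by
    rw [orbSum, Finset.sum_range_one, one_pow, one_pow]
    exact liftRoot_one hs.hM hs.hpN
  rw [ho, mul_one]

omit [DecidableEq F] in
theorem chiGL_one (hs : Setup F (Fin n → F) M p N m) (hn : 2 ≤ n) :
    chiGL M N m (1 : GL (Fin n) F) = ∏ i ∈ Finset.Ico 1 n, ((Fintype.card F : ℂ) ^ i - 1) := by
  have : NeZero n := ⟨by omega⟩
  have h1 : ((Matrix.GeneralLinearGroup.toLin (1 : GL (Fin n) F) :
      LinearMap.GeneralLinearGroup F (Fin n → F)) : Module.End F (Fin n → F)) = 1 := by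
    rw [map_one, Units.val_one]
  have h0 : aeval (1 : Module.End F (Fin n → F)) (X - C 1 : F[X]) = 0 := by simp
  rw [chiGL, h1, value_unipotent hs Function.injective_id ⟨1, by rw [h0, pow_one]⟩, h0,
    LinearMap.ker_zero, Nat.card_congr Submodule.topEquiv.toEquiv,
    Module.natCard_eq_pow_finrank (K := F), Module.finrank_fin_fun, Nat.card_eq_fintype_card,
    Nat.log_pow Fintype.one_lt_card, gprod]
  push_cast
  have := prod_one_sub (Fintype.card F : ℂ) (k := n) (by omega)
  linear_combination -this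

/-- The first `j` coordinates. -/
def coordSub (n j : ℕ) (F : Type*) [Field F] : Submodule F (Fin n → F) where
  carrier := {v | ∀ i : Fin n, j ≤ i.val → v i = 0}
  zero_mem' := fun _ _ => rfl
  add_mem' := fun ha hb i hi => by rw [Pi.add_apply, ha i hi, hb i hi, add_zero]
  smul_mem' := fun c a ha i hi => by rw [Pi.smul_apply, ha i hi, smul_zero]

open Classical in
theorem chiGL_cusp (hs : Setup F (Fin n → F) M p N m) (j : ℕ) (h0 : 0 < j) (hj : j < n) :
    (∑ g : GL (Fin n) F,
      if (∀ i k : Fin n, ¬ (i.val < j ∧ j ≤ k.val) →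
          (g : Matrix (Fin n) (Fin n) F) i k = (1 : Matrix (Fin n) (Fin n) F) i k)
      then chiGL M N m g else 0) = 0 := by
  have : NeZero n := ⟨by omega⟩
  set U := coordSub n j F with hU
  have hmem : ∀ v, v ∈ U ↔ ∀ i : Fin n, j ≤ i.val → v i = 0 := fun v => Iff.rfl
  have hinv : U ≤ U.comap (1 : Module.End F (Fin n → F)) := fun v hv => hv
  have hinj : Function.Injective (1 : Module.End F (Fin n → F)) := Function.injective_id
  have hbot : U ≠ ⊥ := by
    intro h
    have h1 : (Pi.single (⟨0, by omega⟩ : Fin n) (1 : F) : Fin n → F) ∈ U := fun i hi =>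
      Pi.single_eq_of_ne (fun e => by rw [e] at hi; simp at hi; omega) _
    rw [h, Submodule.mem_bot] at h1
    have h2 := congrFun h1 ⟨0, by omega⟩
    rw [Pi.single_eq_same, Pi.zero_apply] at h2
    exact one_ne_zero h2
  have htop : U ≠ ⊤ := by
    intro h
    have h1 : (Pi.single (⟨j, hj⟩ : Fin n) (1 : F) : Fin n → F) ∈ U := by
      rw [h]; exact Submodule.mem_top
    have h2 := (hmem _).mp h1 ⟨j, hj⟩ le_rfl
    rw [Pi.single_eq_same] at h2
    exact one_ne_zero h2
  have := Fintype.ofFinite (radEnd U)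
  have hsum := sum_chiE_translates (M := M) hs hinj hinv hbot htop fun f hf _ hp u hu => by
    obtain ⟨k, hk⟩ := hp
    have hroot : ∀ r : F[X], aeval (1 : Module.End F (Fin n → F)) r =
        algebraMap F (Module.End F (Fin n → F)) (r.eval 1) := fun r => by
      rw [← map_one (algebraMap F (Module.End F (Fin n → F))), aeval_algebraMap_apply, coe_aeval_eq_eval]
    rw [hroot, ← map_pow, map_eq_zero_iff _ (algebraMap F (Module.End F (Fin n → F))).injective] at hk
    rw [hroot, eq_zero_of_pow_eq_zero hk, map_zero, LinearMap.zero_apply]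
  rw [← Finset.sum_filter]
  refine Eq.trans ?_ hsum
  refine Finset.sum_bij (fun g hg => ⟨Matrix.toLin' (g : Matrix (Fin n) (Fin n) F) - 1, ?_⟩)
    (fun g hg => Finset.mem_univ _) (fun g _ g' _ h => ?_) (fun T _ => ?_) fun g hg => ?_
  · have hg' := (Finset.mem_filter.mp hg).2
    have he : Matrix.toLin' (g : Matrix (Fin n) (Fin n) F) - 1 =
        Matrix.toLin' ((g : Matrix (Fin n) (Fin n) F) - 1) := by
      rw [map_sub, Matrix.toLin'_one]; rfl
    rw [he]
    refine ⟨fun v i hi => ?_, fun u hu => funext fun i => ?_⟩ <;>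
      simp only [Matrix.toLin'_apply, Matrix.mulVec, dotProduct, Pi.zero_apply] <;>
      refine Finset.sum_eq_zero fun k _ => ?_
    · rw [Matrix.sub_apply, hg' i k (fun h => by omega), sub_self, zero_mul]
    · by_cases hk : j ≤ k.val
      · rw [hu k hk, mul_zero]
      · rw [Matrix.sub_apply, hg' i k (fun h => hk h.2), sub_self, zero_mul]
  · refine Units.ext (Matrix.toLin'.injective ?_)
    exact sub_left_injective (congrArg Subtype.val h)
  · have hu : IsUnit (1 + T.1) := (LinearMap.isUnit_iff_ker_eq_bot _).mpr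
      (LinearMap.ker_eq_bot.mpr (injective_add hinj hinv T.2))
    refine ⟨Matrix.GeneralLinearGroup.toLin.symm hu.unit,
      Finset.mem_filter.mpr ⟨Finset.mem_univ _, fun i k hik => ?_⟩, Subtype.ext ?_⟩
    · have hval : (Matrix.GeneralLinearGroup.toLin.symm hu.unit : GL (Fin n) F).1 =
          LinearMap.toMatrix' (1 + T.1) := rfl
      rw [hval, map_add, show LinearMap.toMatrix' (1 : Module.End F (Fin n → F)) = 1 from
        LinearMap.toMatrix'_id, Matrix.add_apply, LinearMap.toMatrix'_apply, add_eq_left]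
      by_cases hi : i.val < j
      · have hk : k.val < j := by
          by_contra hk
          exact hik ⟨hi, not_lt.mp hk⟩
        exact congrFun (T.2.2 _ ((hmem _).mpr fun l hl => Pi.single_eq_of_ne
          (fun e => by rw [e] at hl; omega) _)) i
      · exact (hmem _).mp (T.2.1 _) i (not_lt.mp hi)
    · show Matrix.toLin' (LinearMap.toMatrix' (1 + T.1)) - 1 = T.1
      rw [Matrix.toLin'_toMatrix', add_sub_cancel_left]
  · rw [chiGL, toLin_coe]
    congr 1
    exact (add_sub_cancel _ _).symm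

theorem chiGL_irr (hs : Setup F (Fin n → F) M p N m) (hn : 2 ≤ n) :
    IsIrrCharacter (GL (Fin n) F) (chiGL M N m : GL (Fin n) F → ℂ) := by
  classical
  have : NeZero n := ⟨by omega⟩
  have : Finite (Module.End F (Fin n → F)) := Finite.of_injective _ DFunLike.coe_injective
  have := Fintype.ofFinite (Module.End F (Fin n → F))ˣ
  let e : GL (Fin n) F ≃* (Module.End F (Fin n → F))ˣ := Matrix.GeneralLinearGroup.toLin
  refine gen_norm_one_pos ((isGen_comp (isGen_chiE hs) e.toMonoidHom)) ?_ ?_
  · rw [classInner_def]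
    show (Nat.card (GL (Fin n) F) : ℂ)⁻¹ * ∑ g, chiE M N m (e g : Module.End F (Fin n → F)) *
      (starRingEnd ℂ) (chiE M N m (e g : Module.End F (Fin n → F))) = 1
    have hsum := Equiv.sum_comp e.toEquiv fun g : (Module.End F (Fin n → F))ˣ =>
      chiE M N m (g : Module.End F (Fin n → F)) * (starRingEnd ℂ) (chiE M N m (g : Module.End F (Fin n → F)))
    simp only [MulEquiv.toEquiv_eq_coe, EquivLike.coe_coe] at hsum
    rw [hsum, norm_chiE hs (by rw [Module.finrank_fin_fun]; exact hn),
      Nat.card_congr e.toEquiv, inv_mul_cancel₀]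
    exact_mod_cast Nat.card_pos.ne'
  · show 0 < (chiGL M N m (1 : GL (Fin n) F)).re
    rw [chiGL_one hs hn]
    have he : (∏ i ∈ Finset.Ico 1 n, ((Fintype.card F : ℂ) ^ i - 1)) =
        ((∏ i ∈ Finset.Ico 1 n, ((Fintype.card F : ℝ) ^ i - 1) : ℝ) : ℂ) := by push_cast; rfl
    rw [he, Complex.ofReal_re]
    refine Finset.prod_pos fun i hi => sub_pos.mpr (one_lt_pow₀ ?_ ?_)
    · exact_mod_cast Fintype.one_lt_card
    · have := (Finset.mem_Ico.mp hi).1; omega

set_option synthInstance.maxHeartbeats 200000 in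
open Classical in
theorem card_cuspidal (F : Type*) [Field F] [Fintype F] [DecidableEq F] (n : ℕ) (hn : 2 ≤ n) :
    Nat.totient (Fintype.card F ^ n - 1) / n ≤
      Nat.card {χ : IrrCharacter (GL (Fin n) F) //
        (χ : GL (Fin n) F → ℂ) 1 = ∏ i ∈ Finset.Ico 1 n, ((Fintype.card F : ℂ) ^ i - 1) ∧
        ∀ j : ℕ, 0 < j → j < n →
          (∑ g : GL (Fin n) F,
            if (∀ i k : Fin n, ¬ (i.val < j ∧ j ≤ k.val) →
                (g : Matrix (Fin n) (Fin n) F) i k = (1 : Matrix (Fin n) (Fin n) F) i k)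
            then (χ : GL (Fin n) F → ℂ) g else 0) = 0} := by
  have : NeZero n := ⟨by omega⟩
  obtain ⟨p, hpF⟩ := CharP.exists F
  have hp : p.Prime := CharP.char_is_prime F p
  have : Fact p.Prime := ⟨hp⟩
  obtain ⟨M, hM⟩ := CfsgLib.Invol.exists_isPModular p hp
  have : M.IsMaximal := hM.2.1
  have : CharP (Res M) p := res_charP M hM
  have := res_isAlgClosed M
  let _ : Algebra (ZMod p) F := ZMod.algebra F p
  let _ : Algebra (ZMod p) (Res M) := ZMod.algebra (Res M) p
  have : Module.Finite (ZMod p) F := Module.Finite.of_finite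
  let ι : F →ₐ[ZMod p] Res M := IsAlgClosed.lift
  let _ : Algebra F (Res M) := ι.toRingHom.toAlgebra
  set q := Fintype.card F with hq
  have hq2 : 2 ≤ q := Fintype.one_lt_card
  set G := Nat.card (Module.End F (Fin n → F))ˣ with hG
  have : Finite (Module.End F (Fin n → F)) := Finite.of_injective _ DFunLike.coe_injective
  have := Fintype.ofFinite (Module.End F (Fin n → F))ˣ
  have hGdvd : ∀ d, 0 < d → d ≤ n → q ^ d - 1 ∣ G := by
    intro d hd hdn
    rw [hG, ← Nat.card_congr (Matrix.GeneralLinearGroup.toLin (R := F) (n := Fin n)).toEquiv,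
      Matrix.card_GL_field]
    refine Dvd.dvd.trans ?_ (Finset.dvd_prod_of_mem _ (Finset.mem_univ (⟨n - d, by omega⟩ : Fin n)))
    refine ⟨q ^ (n - d), ?_⟩
    simp only []
    rw [Nat.sub_mul, one_mul, ← pow_add, Nat.add_sub_cancel' hdn, hq]
  set N := ∏ d ∈ Finset.Icc 1 n, (q ^ d - 1) with hN
  have hpN : ¬ p ∣ N := by
    intro h
    obtain ⟨d, hd, hpd⟩ := (hp.prime.dvd_finsetProd_iff _).mp h
    have h1 : 1 ≤ d := (Finset.mem_Icc.mp hd).1
    obtain ⟨e, he, hpe⟩ := FiniteField.card F p
    have h2 : p ∣ q ^ d := by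
      rw [hq, hpe, ← pow_mul]
      exact dvd_pow_self p (Nat.mul_ne_zero e.ne_zero (by omega))
    have h3 := Nat.dvd_sub h2 hpd
    rw [Nat.sub_sub_self (Nat.one_le_pow _ _ (by omega))] at h3
    exact hp.not_dvd_one h3
  set Nn := q ^ n - 1 with hNn
  have hNn0 : Nn ≠ 0 := by
    have := Nat.one_lt_pow (by omega : n ≠ 0) (by omega : 1 < q); omega
  have hex : ∀ r, ∃ m : ℕ, r.Coprime Nn → m.Coprime G ∧ m ≡ r [MOD Nn] := fun r => by
    by_cases h : r.Coprime Nn
    · obtain ⟨m, hm⟩ := exists_coprime_lift (G := G) hNn0 Nat.card_pos.ne' h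
      exact ⟨m, fun _ => hm⟩
    · exact ⟨0, fun h' => absurd h' h⟩
  choose mm hmm using hex
  have hsetup : ∀ r, r.Coprime Nn → Setup F (Fin n → F) M p N (mm r) := fun r hr =>
    { hM := hM
      hpN := hpN
      hN := fun d hd hdn => Finset.dvd_prod_of_mem _ (Finset.mem_Icc.mpr
        ⟨hd, by rwa [Module.finrank_fin_fun] at hdn⟩)
      hco := (hmm r hr).1.symm
      hcod := fun d hd hdn =>
        (hmm r hr).1.coprime_dvd_right (hGdvd d hd (by rwa [Module.finrank_fin_fun] at hdn)) }
  set C := {χ : IrrCharacter (GL (Fin n) F) //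
        (χ : GL (Fin n) F → ℂ) 1 = ∏ i ∈ Finset.Ico 1 n, ((Fintype.card F : ℂ) ^ i - 1) ∧
        ∀ j : ℕ, 0 < j → j < n →
          (∑ g : GL (Fin n) F,
            if (∀ i k : Fin n, ¬ (i.val < j ∧ j ≤ k.val) →
                (g : Matrix (Fin n) (Fin n) F) i k = (1 : Matrix (Fin n) (Fin n) F) i k)
            then (χ : GL (Fin n) F → ℂ) g else 0) = 0}
  let R := {r : Fin Nn // r.val.Coprime Nn}
  have hR : Nat.card R = Nat.totient Nn := by
    rw [Nat.card_eq_fintype_card, Fintype.card_subtype, Nat.totient_eq_card_coprime]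
    exact Finset.card_bij (fun r _ => r.val) (fun r hr => by
        exact Finset.mem_filter.mpr ⟨Finset.mem_range.mpr r.isLt, ((Finset.mem_filter.mp hr).2).symm⟩)
      (fun _ _ _ _ h => Fin.ext h) (fun r hr => by
        obtain ⟨h1, h2⟩ := Finset.mem_filter.mp hr
        exact ⟨⟨r, Finset.mem_range.mp h1⟩, Finset.mem_filter.mpr ⟨Finset.mem_univ _, h2.symm⟩, rfl⟩)
  let Φ : R → C := fun r => ⟨⟨chiGL M N (mm r.1.val), chiGL_irr (hsetup _ r.2) hn⟩,
    chiGL_one (hsetup _ r.2) hn, fun j => chiGL_cusp (hsetup _ r.2) j⟩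
  have := Fintype.ofFinite C
  have hfib : ∀ c ∈ Finset.univ.image Φ, ((Finset.univ : Finset R).filter fun r => Φ r = c).card ≤ n := by
    intro c hc
    obtain ⟨r0, -, rfl⟩ := Finset.mem_image.mp hc
    have hmem : ∀ r : R, Φ r = Φ r0 → ∃ i < n, r0.1.val * q ^ i % Nn = r.1.val := by
      intro r hr
      have hfun : ∀ g : (Module.End F (Fin n → F))ˣ, chiE M N (mm r.1.val) (g : Module.End F (Fin n → F)) =
          chiE M N (mm r0.1.val) (g : Module.End F (Fin n → F)) := fun g => by
        have h1 := congrFun (congrArg (fun c : C => (c.1 : GL (Fin n) F → ℂ)) hr)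
          (Matrix.GeneralLinearGroup.toLin.symm g)
        simp only [Φ, chiGL, MulEquiv.apply_symm_apply] at h1
        exact h1
      obtain ⟨i, hi, hmod⟩ := modEq_of_chiE_eq (hsetup _ r.2) (hsetup _ r0.2)
        (by rw [Module.finrank_fin_fun]; exact hn) hfun
      rw [Module.finrank_fin_fun] at hi hmod
      refine ⟨i, hi, ?_⟩
      have h2 : r0.1.val * q ^ i ≡ r.1.val [MOD Nn] :=
        (((hmm _ r0.2).2.mul_right _).symm.trans hmod).trans (hmm _ r.2).2
      rw [Nat.ModEq, Nat.mod_eq_of_lt r.1.isLt] at h2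
      exact h2
    refine le_trans (Finset.card_le_card_of_injOn (fun r => r.1.val) (fun r hr => ?_)
      (fun a _ b _ h => Subtype.ext (Fin.ext h)))
      ((Finset.card_image_le (s := Finset.range n) (f := fun i => r0.1.val * q ^ i % Nn)).trans
        (Finset.card_range n).le)
    obtain ⟨i, hi, he⟩ := hmem r (Finset.mem_filter.mp hr).2
    exact Finset.mem_image.mpr ⟨i, Finset.mem_range.mpr hi, he⟩
  rw [← hR, Nat.card_eq_fintype_card, Nat.card_eq_fintype_card]
  refine Nat.div_le_of_le_mul ?_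
  exact (Finset.card_le_mul_card_image Finset.univ n hfib).trans
    (Nat.mul_le_mul_left n (Finset.card_le_univ _))

end CfsgLib.Cuspidal
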