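import Mathlib

/-!
# The Moebius function `mu(⊥, ·)` of a finite order

* `mu`, `sum_mu`, `mu_bot`, `mu_orderIso`;
* `soc`: the supremum of the atoms below an element; `mu` vanishes off the elements equal to
  their `soc`.
-/

set_option autoImplicit false

namespace CfsgLib.Cuspidal

section Order

variable {α : Type*} [PartialOrder α] [OrderBot α] [Finite α]

open Classical in
/-- The Moebius function from the least element. -/
noncomputable def mu : α → ℤ :=
  (wellFounded_lt (α := α)).fix fun a ih =>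
    if a = ⊥ then 1 else
      -∑ b ∈ (Set.toFinite {b : α | b < a}).toFinset.attach, ih b.1
        (show b.1 ∈ {x : α | x < a} from (Set.Finite.mem_toFinset (Set.toFinite _)).mp b.2)

theorem mu_eq (a : α) [Decidable (a = ⊥)] :
    mu a = if a = ⊥ then 1 else -∑ b ∈ (Set.toFinite {b : α | b < a}).toFinset, mu b := by
  rw [mu, WellFounded.fix_eq]
  by_cases h : a = ⊥
  · simp [h]
  · simp only [h, if_false, neg_inj]
    exact Finset.sum_attach _ (fun b => mu b)

theorem mu_bot : mu (⊥ : α) = 1 := by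
  classical
  rw [mu_eq, if_pos rfl]

theorem sum_mu (a : α) [Decidable (a = ⊥)] (s : Finset α) (hs : ∀ b, b ∈ s ↔ b ≤ a) :
    ∑ b ∈ s, mu b = if a = ⊥ then 1 else 0 := by
  classical
  have ha : a ∈ s := (hs a).mpr le_rfl
  rw [← Finset.add_sum_erase _ _ ha, mu_eq a]
  have he : s.erase a = (Set.toFinite {b : α | b < a}).toFinset := by
    ext b
    rw [Finset.mem_erase, hs, Set.Finite.mem_toFinset, Set.mem_ofPred_eq, lt_iff_le_and_ne, and_comm]
  rw [he]
  by_cases h : a = ⊥
  · subst h
    rw [if_pos rfl, if_pos rfl, Finset.sum_eq_zero, add_zero]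
    intro b hb
    rw [Set.Finite.mem_toFinset] at hb
    exact absurd hb not_lt_bot
  · rw [if_neg h, if_neg h, neg_add_cancel]

theorem mu_orderIso {β : Type*} [PartialOrder β] [OrderBot β] [Finite β] (e : α ≃o β) (a : α) :
    mu (e a) = mu a := by
  classical
  induction a using (wellFounded_lt (α := α)).induction with
  | _ a ih =>
  rw [mu_eq, mu_eq]
  by_cases h : a = ⊥
  · rw [if_pos h, if_pos (by rw [h, e.map_bot])]
  · rw [if_neg h, if_neg (fun h' => h (e.injective (h'.trans e.map_bot.symm))), neg_inj]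
    have hs : (Set.toFinite {b : β | b < e a}).toFinset =
        (Set.toFinite {b : α | b < a}).toFinset.map e.toEquiv.toEmbedding := by
      ext b
      simp only [Finset.mem_map, Set.Finite.mem_toFinset, Set.mem_ofPred_eq]
      constructor
      · intro hb
        exact ⟨e.symm b, by rw [← e.lt_iff_lt, e.apply_symm_apply]; exact hb, e.apply_symm_apply b⟩
      · rintro ⟨c, hc, rfl⟩
        exact e.lt_iff_lt.mpr hc
    rw [hs, Finset.sum_map]
    exact Finset.sum_congr rfl fun b hb => ih b (by simpa using hb)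

end Order

section Lattice

variable {α : Type*} [CompleteLattice α]

/-- The supremum of the atoms below an element. -/
noncomputable def soc (a : α) : α := sSup {b | IsAtom b ∧ b ≤ a}

theorem soc_le (a : α) : soc a ≤ a := sSup_le fun _ hb => hb.2

theorem le_soc {a b : α} (hb : IsAtom b) (h : b ≤ a) : b ≤ soc a := le_sSup ⟨hb, h⟩

theorem soc_mono {a b : α} (h : a ≤ b) : soc a ≤ soc b :=
  sSup_le fun _ hc => le_soc hc.1 (hc.2.trans h)

theorem soc_bot : soc (⊥ : α) = ⊥ := le_bot_iff.mp (soc_le ⊥)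

theorem soc_idem (a : α) : soc (soc a) = soc a :=
  le_antisymm (soc_le _) (sSup_le fun _ hb => le_soc hb.1 (le_soc hb.1 hb.2))

theorem soc_atom {a : α} (h : IsAtom a) : soc a = a := le_antisymm (soc_le a) (le_soc h le_rfl)

theorem soc_sup {a b : α} (ha : soc a = a) (hb : soc b = b) : soc (a ⊔ b) = a ⊔ b :=
  le_antisymm (soc_le _) (sup_le
    (ha.ge.trans (soc_mono le_sup_left)) (hb.ge.trans (soc_mono le_sup_right)))

variable [Finite α]

theorem soc_ne_bot {a : α} (ha : a ≠ ⊥) : soc a ≠ ⊥ := by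
  obtain ⟨b, hb, hba⟩ := (IsAtomic.eq_bot_or_exists_atom_le a).resolve_left ha
  exact fun h => hb.1 (le_bot_iff.mp (h ▸ le_soc hb hba))

theorem mu_eq_zero {a : α} (h : soc a ≠ a) : mu a = 0 := by
  classical
  have := Fintype.ofFinite α
  induction a using (wellFounded_lt (α := α)).induction with
  | _ a ih =>
  have ha : a ≠ ⊥ := fun e => h (by rw [e, soc_bot])
  rw [mu_eq, if_neg ha, neg_eq_zero]
  have hsub : Finset.univ.filter (fun b => b ≤ soc a) ⊆ (Set.toFinite {b : α | b < a}).toFinset := by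
    intro b hb
    rw [Finset.mem_filter] at hb
    rw [Set.Finite.mem_toFinset]
    exact hb.2.trans_lt ((soc_le a).lt_of_ne h)
  rw [← Finset.sum_subset hsub, sum_mu (soc a) _ (fun b => by simp), if_neg (soc_ne_bot ha)]
  intro b hb hnb
  rw [Set.Finite.mem_toFinset] at hb
  rw [Finset.mem_filter] at hnb
  refine ih b hb fun e => hnb ⟨Finset.mem_univ b, ?_⟩
  rw [← e]
  exact soc_mono (le_of_lt hb)

variable [IsModularLattice α]

theorem exists_compl {s b : α} (hs : soc s = s) (hb : b ≤ s) :
    ∃ c, c ≤ s ∧ Disjoint b c ∧ b ⊔ c = s := by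
  obtain ⟨c, -, hc⟩ := Finite.exists_le_maximal (p := fun c => c ≤ s ∧ Disjoint b c)
    (a := (⊥ : α)) ⟨bot_le, disjoint_bot_right⟩
  obtain ⟨hcs, hdis⟩ := hc.prop
  refine ⟨c, hcs, hdis, le_antisymm (sup_le hb hcs) ?_⟩
  rw [← hs]
  refine sSup_le fun a ha => ?_
  by_contra hle
  have hd : Disjoint (b ⊔ c) a := ((IsAtom.not_le_iff_disjoint ha.1).mp hle).symm
  have h2 : c ⊔ a ≤ c := hc.le_of_ge
    ⟨sup_le hcs ha.2, hdis.disjoint_sup_right_of_disjoint_sup_left hd⟩ le_sup_left
  exact hle ((le_sup_right.trans h2).trans le_sup_right)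

theorem soc_of_le {s w : α} (hs : soc s = s) (hw : w ≤ s) : soc w = w := by
  obtain ⟨c, -, hdis, hsup⟩ := exists_compl hs ((soc_le w).trans hw)
  have h1 : c ⊓ w = ⊥ := by
    by_contra hne
    obtain ⟨a, ha, hale⟩ := (IsAtomic.eq_bot_or_exists_atom_le (c ⊓ w)).resolve_left hne
    exact ha.1 (le_bot_iff.mp (hdis.le_bot.trans' (le_inf (le_soc ha (hale.trans inf_le_right))
      (hale.trans inf_le_left))))
  have h2 : soc w ⊔ c ⊓ w = w := by
    rw [← sup_inf_assoc_of_le c (soc_le w), hsup, inf_eq_right.mpr hw]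
  rwa [h1, sup_bot_eq] at h2

end Lattice

end CfsgLib.Cuspidal
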