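import Cfsg.Agent.Lib.Cuspidal.Proper
import Cfsg.Agent.Lib.Cuspidal.Count

/-!
# The norm and the distinctness of the cuspidal characters

* `tSum`: `∑_{i < n}` of the lifted conjugates of `x ^ m`;
* `norm_chiE`: `chiE` has norm one;
* `modEq_of_chiE_eq`: two exponents giving the same function are conjugate.
-/

set_option autoImplicit false

noncomputable section

namespace CfsgLib.Cuspidal

open Cfsg CfsgLib.Blocks CfsgLib.Modular Polynomial Module
open scoped ComplexConjugate

attribute [local instance] CfsgLib.Blocks.resField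

theorem prod_q_sub (Q : ℂ) (k : ℕ) :
    ∏ i ∈ Finset.range k, (Q ^ k - Q ^ i) =
      Q ^ k.choose 2 * ∏ i ∈ Finset.Ico 1 (k + 1), (Q ^ i - 1) := by
  induction k with
  | zero => simp
  | succ k ih =>
    rw [Finset.prod_range_succ', Finset.prod_Ico_succ_top (by omega : 1 ≤ k + 1),
      show (k + 1).choose 2 = k + k.choose 2 by rw [Nat.choose_succ_succ', Nat.choose_one_right]]
    simp only [pow_succ _ k, pow_zero, pow_succ _ _]
    rw [Finset.prod_congr rfl (g := fun i => (Q ^ k - Q ^ i) * Q) fun i _ => by ring,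
      Finset.prod_mul_distrib, Finset.prod_const, Finset.card_range, ih, pow_add]
    ring

theorem prod_one_sub (Q : ℂ) {k : ℕ} (hk : k ≠ 0) :
    (-1) ^ k * ∏ i ∈ Finset.Ico 1 k, (1 - Q ^ i) = -∏ i ∈ Finset.Ico 1 k, (Q ^ i - 1) := by
  rw [Finset.prod_congr rfl (g := fun i => (-1) * (Q ^ i - 1)) fun i _ => by ring,
    Finset.prod_mul_distrib, Finset.prod_const, Nat.card_Ico, ← mul_assoc, ← pow_add,
    show k + (k - 1) = 2 * (k - 1) + 1 by omega, pow_succ, pow_mul]
  simp

variable (M : Ideal AlgInt) [M.IsMaximal]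

/-- The sum of the lifted conjugates of `x ^ m`. -/
def tSum (F : Type*) [Fintype F] (N m n : ℕ) (x : Res M) : ℂ :=
  ∑ i ∈ Finset.range n, liftRoot M N ((x ^ m) ^ Fintype.card F ^ i)

variable {M} {F V : Type*} [Field F] [Fintype F] [Algebra F (Res M)]
  [AddCommGroup V] [Module F V] {p N m m' : ℕ}

omit [Field F] [Algebra F (Res M)] in
theorem orbSum_eq (y : Res M) (d : ℕ) :
    orbSum M N F y d = ∑ i ∈ Finset.range d, liftRoot M N (y ^ Fintype.card F ^ i) := rfl

theorem tSum_eq {f : F[X]} (hf : Irreducible f) (hfm : f.Monic) {x : Res M} (hx : aeval x f = 0)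
    (k : ℕ) : tSum M F N m (f.natDegree * k) x = k * orbSum M N F (x ^ m) f.natDegree := by
  induction k with
  | zero => simp [tSum]
  | succ k ih =>
    rw [Nat.mul_succ, tSum, Finset.sum_range_add, ← tSum, ih]
    have h : ∀ i, (x ^ m) ^ Fintype.card F ^ (f.natDegree * k + i) = (x ^ m) ^ Fintype.card F ^ i :=
      fun i => by
      rw [pow_add, pow_mul (x ^ m), ← pow_mul x m, mul_comm m, pow_mul x,
        (pow_card_pow_eq_iff hf hfm hx _).mpr (dvd_mul_right _ _)]
    simp only [h, ← orbSum_eq]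
    push_cast
    ring

variable [Finite V] [Nontrivial V]

omit [M.IsMaximal] [Fintype F] [Finite V] [Nontrivial V] in
theorem isUnit_of_killed {φ : Module.End F V} {f : F[X]} (hf : Irreducible f) (hfm : f.Monic)
    {x : Res M} (hx : aeval x f = 0) (hx0 : x ≠ 0) (h : aeval φ f = 0) : IsUnit φ := by
  have hcop : IsCoprime f X := hf.coprime_iff_not_dvd.mpr fun hdvd => by
    have e := eq_of_monic_of_associated hfm monic_X (hf.associated_of_dvd irreducible_X hdvd)
    rw [e, aeval_X] at hx
    exact hx0 hx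
  obtain ⟨a, b, hab⟩ := hcop
  have h1 := congrArg (aeval φ) hab
  have h2 := congrArg (aeval φ) (show X * b = b * X from mul_comm _ _)
  simp only [map_mul, aeval_X, map_add, h, mul_zero, zero_add, map_one] at h1 h2
  exact ⟨⟨φ, aeval φ b, h2.trans h1, h1⟩, rfl⟩

omit [Fintype F] in
theorem exists_prim_of_ne_zero {φ : Module.End F V} (h : chiE M N m φ ≠ 0) :
    ∃ f : F[X], Irreducible f ∧ f.Monic ∧ IsPrim φ f := by
  by_contra hne
  exact h (chiE_not_prim M N m φ fun f hf hfm hp => hne ⟨f, hf, hfm, hp⟩)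

/-- The term of `x` in the norm. -/
def normTerm (F : Type*) [Fintype F] (N m n : ℕ) (x : Res M) (d : ℕ) : ℂ :=
  ((n / d : ℕ) : ℂ) * (Fintype.card F ^ d : ℂ) ^ (n / d).choose 2 *
    (∏ i ∈ Finset.Ico 1 (n / d), ((Fintype.card F ^ d : ℂ) ^ i - 1)) *
    (orbSum M N F (x ^ m) d * conj (orbSum M N F (x ^ m) d)) / (d : ℂ)

theorem top_value (hs : Setup F V M p N m) {φ : Module.End F V} (hφ : Function.Injective φ) {f : F[X]}
    (hf : Irreducible f) (hfm : f.Monic) (h0 : aeval φ f = 0) {x : Res M} (hx : aeval x f = 0) :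
    f.natDegree ∣ finrank F V ∧ x ≠ 0 ∧
      (-1) ^ finrank F V * (chiE M N m φ * conj (wgt M N m φ ⊤)) =
        (f.natDegree : ℂ) * normTerm F N m (finrank F V) x f.natDegree := by
  have : FiniteDimensional F V := Module.Finite.of_finite
  have hp : IsPrim φ f := ⟨1, by rw [h0, pow_one]⟩
  obtain ⟨L, hL, hann⟩ := prim_atom φ hf hp
  have hx0 := root_ne_zero φ hφ hL hf hfm hann hx
  obtain ⟨k, hk0, hk, hw⟩ := weight_top M N m φ hf hfm h0 hx hx0
    (hs.hcod _ hf.natDegree_pos (degree_le φ hL hfm hann))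
  set d := f.natDegree with hd
  have hn : finrank F V = d * k := by
    have h1 := hk
    rw [Module.natCard_eq_pow_finrank (K := F) (V := V), Nat.card_eq_fintype_card, ← pow_mul] at h1
    exact Nat.pow_right_injective Fintype.one_lt_card h1
  have hnd : finrank F V / d = k := by rw [hn, Nat.mul_div_cancel_left k hf.natDegree_pos]
  refine ⟨⟨k, hn⟩, hx0, ?_⟩
  rw [chiE_value hs hφ hf hfm hp hx, hw, normTerm, hnd, ← hd]
  have hker : Nat.card (LinearMap.ker (aeval φ f)) = (Fintype.card F ^ d) ^ k := by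
    rw [h0, LinearMap.ker_zero, Nat.card_congr Submodule.topEquiv.toEquiv, hk]
  rw [hker, Nat.log_pow (Nat.one_lt_pow hf.natDegree_pos.ne' Fintype.one_lt_card)]
  simp only [gprod, map_mul, map_pow, map_neg, map_one, map_natCast, Int.cast_prod, Int.cast_sub,
    Int.cast_one, Int.cast_pow, Int.cast_natCast, Nat.cast_pow]
  have hd0 : (d : ℂ) ≠ 0 := Nat.cast_ne_zero.mpr hf.natDegree_pos.ne'
  rw [mul_div_cancel₀ _ hd0]
  have hp1 := prod_one_sub ((Fintype.card F : ℂ) ^ d) hk0
  have hsq : ((-1 : ℂ) ^ finrank F V) * (-1) ^ finrank F V = 1 := by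
    rw [← mul_pow]; simp
  linear_combination
    (-(orbSum M N F (x ^ m) d * conj (orbSum M N F (x ^ m) d) *
        ((Fintype.card F : ℂ) ^ d) ^ k.choose 2 * k)) *
      ((-1 : ℂ) ^ finrank F V * (-1) ^ finrank F V) * hp1 +
    (orbSum M N F (x ^ m) d * conj (orbSum M N F (x ^ m) d) *
        ((Fintype.card F : ℂ) ^ d) ^ k.choose 2 * k *
        ∏ i ∈ Finset.Ico 1 k, (((Fintype.card F : ℂ) ^ d) ^ i - 1)) * hsq

theorem natDegree_dvd_of_root {n : ℕ} {x : Res M} (hn : 0 < n) (hx : x ^ (Fintype.card F ^ n - 1) = 1) :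
    IsIntegral F x ∧ x ≠ 0 ∧ (minpoly F x).natDegree ∣ n := by
  have hq : 1 < Fintype.card F ^ n := Nat.one_lt_pow hn.ne' Fintype.one_lt_card
  have hxn : x ^ Fintype.card F ^ n = x := by
    conv_lhs => rw [← Nat.sub_add_cancel hq.le, pow_succ, hx, one_mul]
  have hint : IsIntegral F x := by
    refine IsAlgebraic.isIntegral ⟨X ^ Fintype.card F ^ n - X,
      FiniteField.X_pow_card_pow_sub_X_ne_zero F hn.ne' Fintype.one_lt_card, ?_⟩
    rw [map_sub, map_pow, aeval_X, hxn, sub_self]
  refine ⟨hint, fun h => ?_,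
    (pow_card_pow_eq_iff (minpoly.irreducible hint) (minpoly.monic hint) (minpoly.aeval F x) n).mp hxn⟩
  rw [h, zero_pow (by omega)] at hx
  exact zero_ne_one hx

variable [Fintype (Module.End F V)ˣ]

open Classical in
theorem top_fibre (hs : Setup F V M p N m) (g : (Module.End F V)ˣ) :
    (-1) ^ finrank F V * (chiE M N m (g : Module.End F V) * conj (wgt M N m (g : Module.End F V) ⊤)) =
      ∑ x ∈ (nthRootsFinset (Fintype.card F ^ finrank F V - 1) (1 : Res M)).filter
          (fun x => aeval (g : Module.End F V) (minpoly F x) = 0),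
        normTerm F N m (finrank F V) x (minpoly F x).natDegree := by
  have : FiniteDimensional F V := Module.Finite.of_finite
  set n := finrank F V with hn
  have hn0 : 0 < n := finrank_pos
  have hq : 0 < Fintype.card F ^ n - 1 := by
    have := Nat.one_lt_pow hn0.ne' (Fintype.one_lt_card (α := F)); omega
  set R := (nthRootsFinset (Fintype.card F ^ n - 1) (1 : Res M)).filter
    (fun x => aeval (g : Module.End F V) (minpoly F x) = 0) with hR
  have hinj : Function.Injective (g : Module.End F V) := (unitEquiv g).injective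
  by_cases h : ∃ f : F[X], Irreducible f ∧ f.Monic ∧ aeval (g : Module.End F V) f = 0
  swap
  · have hR0 : R = ∅ := by
      rw [hR, Finset.filter_eq_empty_iff]
      intro x hx h0
      rw [mem_nthRootsFinset hq] at hx
      obtain ⟨hint, -, -⟩ := natDegree_dvd_of_root hn0 hx
      exact h ⟨_, minpoly.irreducible hint, minpoly.monic hint, h0⟩
    rw [hR0, Finset.sum_empty]
    by_contra hne
    obtain ⟨f, hf, hfm, hp⟩ := exists_prim_of_ne_zero (M := M) (N := N) (m := m)
      (φ := (g : Module.End F V)) fun e => hne (by rw [e, zero_mul, mul_zero])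
    refine h ⟨f, hf, hfm, LinearMap.ext fun v => ?_⟩
    refine kills_of_muG _ (fun v _ => Submodule.mem_top) (fun hmu => hne ?_)
      (fun L hL => by rw [ann_eq_of_prim _ hf hp hL]; exact Ideal.mem_span_singleton_self f) v
      Submodule.mem_top
    rw [wgt, hmu, Int.cast_zero, zero_mul, map_zero, mul_zero, mul_zero]
  obtain ⟨f, hf, hfm, h0⟩ := h
  have hroot : ∀ x, x ∈ R ↔ aeval x f = 0 := by
    intro x
    rw [hR, Finset.mem_filter, mem_nthRootsFinset hq]
    constructor
    · rintro ⟨hx, hgx⟩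
      obtain ⟨hint, -, -⟩ := natDegree_dvd_of_root hn0 hx
      by_cases hdvd : IsCoprime (minpoly F x) f
      · exfalso
        obtain ⟨a, b, hab⟩ := hdvd
        have h1 := congrArg (aeval (g : Module.End F V)) hab
        rw [map_add, map_mul, map_mul, hgx, h0, mul_zero, mul_zero, add_zero, map_one] at h1
        exact one_ne_zero h1.symm
      · have hdvd' : minpoly F x ∣ f := by
          by_contra hc
          exact hdvd ((minpoly.irreducible hint).coprime_iff_not_dvd.mpr hc)
        exact (minpoly.dvd_iff).mp hdvd'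
    · intro hx
      obtain ⟨hdvd, hx0, -⟩ := top_value hs hinj hf hfm h0 hx
      have hmin := minpoly.eq_of_irreducible_of_monic hf hx hfm
      refine ⟨?_, by rw [← hmin]; exact h0⟩
      have h1 := (pow_card_pow_eq_iff hf hfm hx n).mpr hdvd
      refine mul_right_cancel₀ hx0 ?_
      rw [← pow_succ, Nat.sub_add_cancel (pow_pos Fintype.card_pos n), h1, one_mul]
  have := res_isAlgClosed M
  have hcard : R.card = f.natDegree := by
    have he : R = (f.rootSet (Res M)).toFinset := by
      ext x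
      rw [hroot, Set.mem_toFinset, mem_rootSet']
      exact ⟨fun h => ⟨(hfm.map _).ne_zero, h⟩, fun h => h.2⟩
    rw [he, Set.toFinset_card]
    exact card_rootSet_eq_natDegree (PerfectField.separable_of_irreducible hf) (IsAlgClosed.splits _)
  have hd0 : (f.natDegree : ℂ) ≠ 0 := Nat.cast_ne_zero.mpr hf.natDegree_pos.ne'
  rw [Finset.sum_congr rfl (g := fun _ => ((-1) ^ n * (chiE M N m (g : Module.End F V) *
      conj (wgt M N m (g : Module.End F V) ⊤))) / (f.natDegree : ℂ)) fun x hx => ?_,
    Finset.sum_const, hcard, nsmul_eq_mul, mul_div_cancel₀ _ hd0]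
  have hx' := (hroot x).mp hx
  rw [(top_value hs hinj hf hfm h0 hx').2.2, ← minpoly.eq_of_irreducible_of_monic hf hx' hfm,
    mul_div_cancel_left₀ _ hd0]

omit [Fintype (Module.End F V)ˣ] in
theorem exists_killed {x : Res M} (hx : x ^ (Fintype.card F ^ finrank F V - 1) = 1) :
    ∃ k, finrank F V = (minpoly F x).natDegree * k ∧
      ∃ φ : Module.End F V, IsUnit φ ∧ aeval φ (minpoly F x) = 0 := by
  have : FiniteDimensional F V := Module.Finite.of_finite
  obtain ⟨hint, hx0, k, hk⟩ := natDegree_dvd_of_root finrank_pos hx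
  have hcount := card_killed_endo (V := V) (minpoly.irreducible hint) (minpoly.monic hint) hk.symm
  obtain ⟨⟨φ, hφ⟩⟩ : Nonempty {φ : Module.End F V // aeval φ (minpoly F x) = 0} := by
    refine (Nat.card_ne_zero.mp fun h => ?_).1
    rw [h, zero_mul] at hcount
    exact Nat.card_pos.ne' hcount.symm
  exact ⟨k, hk, φ, isUnit_of_killed (minpoly.irreducible hint) (minpoly.monic hint)
    (minpoly.aeval F x) hx0 hφ, hφ⟩

open Classical in
theorem count_mul_term {x : Res M} (hx : x ^ (Fintype.card F ^ finrank F V - 1) = 1) :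
    ((Fintype.card F : ℂ) ^ finrank F V - 1) * (finrank F V : ℂ) *
      ((Finset.univ.filter fun g : (Module.End F V)ˣ =>
          aeval (g : Module.End F V) (minpoly F x) = 0).card *
        normTerm F N m (finrank F V) x (minpoly F x).natDegree) =
      (Nat.card (Module.End F V)ˣ : ℂ) *
        (tSum M F N m (finrank F V) x * conj (tSum M F N m (finrank F V) x)) := by
  have : FiniteDimensional F V := Module.Finite.of_finite
  obtain ⟨hint, hx0, k, hk⟩ := natDegree_dvd_of_root finrank_pos hx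
  set f := minpoly F x with hfdef
  have hf := minpoly.irreducible hint
  have hfm := minpoly.monic hint
  set d := f.natDegree with hd
  have hk0 : k ≠ 0 := fun h => by
    have := finrank_pos (R := F) (M := V); rw [hk, h, mul_zero] at this; exact this.false
  have hc := card_killed_endo (V := V) hf hfm hk.symm
  have hA : (Finset.univ.filter fun g : (Module.End F V)ˣ => aeval (g : Module.End F V) f = 0).card =
      Nat.card {φ : Module.End F V // aeval φ f = 0} := by
    rw [← Fintype.card_subtype, ← Nat.card_eq_fintype_card]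
    exact Nat.card_congr
      { toFun := fun g => ⟨g.1.1, g.2⟩
        invFun := fun φ => ⟨(isUnit_of_killed hf hfm (minpoly.aeval F x) hx0 φ.2).unit, φ.2⟩
        left_inv := fun g => Subtype.ext (Units.ext rfl)
        right_inv := fun φ => Subtype.ext rfl }
  have hc' : (Nat.card (Module.End F V)ˣ : ℂ) = (Nat.card {φ : Module.End F V // aeval φ f = 0} : ℂ) *
      ∏ i ∈ Finset.range k, (((Fintype.card F : ℂ) ^ d) ^ k - ((Fintype.card F : ℂ) ^ d) ^ i) := by
    rw [← hc, Nat.cast_mul, Nat.cast_prod]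
    congr 1
    refine Finset.prod_congr rfl fun i hi => ?_
    rw [Nat.cast_sub (Nat.pow_le_pow_right (pow_pos Fintype.card_pos _) (Finset.mem_range.mp hi).le)]
    simp [hd, hfdef]
  have hd0 : (d : ℂ) ≠ 0 := Nat.cast_ne_zero.mpr hf.natDegree_pos.ne'
  rw [hA, normTerm, hk, Nat.mul_div_cancel_left k hf.natDegree_pos, hc', prod_q_sub,
    Finset.prod_Ico_succ_top (by omega : 1 ≤ k), tSum_eq hf hfm (minpoly.aeval F x) k,
    show (minpoly F x).natDegree = d from rfl]
  simp only [map_mul, map_natCast, Nat.cast_mul]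
  rw [pow_mul]
  field_simp

theorem norm_chiE (hs : Setup F V M p N m) (hn : 2 ≤ finrank F V) :
    ∑ g : (Module.End F V)ˣ, chiE M N m (g : Module.End F V) * conj (chiE M N m (g : Module.End F V)) =
      (Nat.card (Module.End F V)ˣ : ℂ) := by
  classical
  have : FiniteDimensional F V := Module.Finite.of_finite
  set n := finrank F V with hn'
  set q := Fintype.card F with hq
  have hq2 : 2 ≤ q := Fintype.one_lt_card
  have hN0 : 0 < q ^ n - 1 := by
    have := Nat.one_lt_pow (by omega : n ≠ 0) (by omega : 1 < q); omega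
  have hpN0 : ¬ p ∣ q ^ n - 1 := fun h => hs.hpN (h.trans (hs.hN n (by omega) le_rfl))
  rw [sum_chiE_mul_conj hs, Finset.mul_sum, Finset.sum_congr rfl fun g _ => top_fibre hs g]
  rw [Finset.sum_comm' (t' := nthRootsFinset (q ^ n - 1) (1 : Res M))
    (s' := fun x => Finset.univ.filter fun g : (Module.End F V)ˣ =>
      aeval (g : Module.End F V) (minpoly F x) = 0)
    (fun g x => by simp only [Finset.mem_univ, true_and, Finset.mem_filter]; exact and_comm)]
  simp only [Finset.sum_const, nsmul_eq_mul]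
  have hne : ((q : ℂ) ^ n - 1) * (n : ℂ) ≠ 0 := by
    refine mul_ne_zero ?_ (Nat.cast_ne_zero.mpr (by omega))
    rw [← Nat.cast_pow, ← Nat.cast_one, ← Nat.cast_sub (by omega)]
    exact Nat.cast_ne_zero.mpr hN0.ne'
  refine mul_left_cancel₀ hne ?_
  rw [Finset.mul_sum, Finset.sum_congr rfl fun x hx =>
    count_mul_term (M := M) (N := N) (m := m) ((mem_nthRootsFinset hN0 1).mp hx), ← Finset.mul_sum]
  rw [mul_comm _ (Nat.card (Module.End F V)ˣ : ℂ)]
  congr 1
  have hL : ∀ x : Res M, x ^ (q ^ n - 1) = 1 → ∀ i,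
      liftRoot M N ((x ^ m) ^ q ^ i) = liftRoot M (q ^ n - 1) x ^ (m * q ^ i) := fun x hx i => by
    rw [← pow_mul x, ← liftRoot_pow hs.hM hpN0 hx,
      liftRoot_of_dvd hs.hM (hs.hN n (by omega) le_rfl) hs.hpN]
    rw [← pow_mul, mul_comm, pow_mul, hx, one_pow]
  have hexp : ∀ x ∈ nthRootsFinset (q ^ n - 1) (1 : Res M),
      tSum M F N m n x * conj (tSum M F N m n x) =
        ∑ i ∈ Finset.range n, ∑ j ∈ Finset.range n,
          liftRoot M (q ^ n - 1) x ^ (m * q ^ i) * conj (liftRoot M (q ^ n - 1) x ^ (m * q ^ j)) := by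
    intro x hx
    rw [mem_nthRootsFinset hN0] at hx
    rw [tSum, ← hq, map_sum, Finset.sum_mul_sum]
    simp only [hL x hx]
  rw [Finset.sum_congr rfl hexp, Finset.sum_comm]
  rw [Finset.sum_congr rfl (g := fun _ => ((q ^ n - 1 : ℕ) : ℂ)) fun i hi => ?_, Finset.sum_const,
    Finset.card_range, nsmul_eq_mul, Nat.cast_sub (by omega), Nat.cast_pow, Nat.cast_one, mul_comm]
  rw [Finset.sum_comm, Finset.sum_congr rfl fun j _ => sum_liftRoot hs.hM hpN0 _ _,
    Finset.sum_eq_single i, if_pos (Nat.ModEq.refl _)]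
  · intro j hj hji
    refine if_neg fun hmod => hji ?_
    have h1 := Nat.ModEq.cancel_left_of_coprime
      (by rw [Nat.gcd_comm]; exact hs.hcod n (by omega) le_rfl) hmod
    have hlt : ∀ t, t < n → q ^ t < q ^ n - 1 := fun t ht => by
      have h2 : q ^ t ≤ q ^ (n - 1) := Nat.pow_le_pow_right (by omega) (by omega)
      have h3 : q ^ n = q ^ (n - 1) * q := by rw [← pow_succ, Nat.sub_add_cancel (by omega : 1 ≤ n)]
      have h4 : q ^ 1 ≤ q ^ (n - 1) := Nat.pow_le_pow_right (by omega) (by omega)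
      rw [pow_one] at h4
      nlinarith [Nat.sub_add_cancel (show 1 ≤ q ^ n by omega)]
    exact (Nat.pow_right_injective hq2 (h1.eq_of_lt_of_lt (hlt i (Finset.mem_range.mp hi))
      (hlt j (Finset.mem_range.mp hj)))).symm
  · exact fun h => absurd hi h

omit [Fintype (Module.End F V)ˣ] in
theorem modEq_of_chiE_eq (hs : Setup F V M p N m) (hs' : Setup F V M p N m') (hn : 2 ≤ finrank F V)
    (h : ∀ g : (Module.End F V)ˣ, chiE M N m (g : Module.End F V) = chiE M N m' (g : Module.End F V)) :
    ∃ i < finrank F V, m' * Fintype.card F ^ i ≡ m [MOD Fintype.card F ^ finrank F V - 1] := by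
  classical
  have : FiniteDimensional F V := Module.Finite.of_finite
  set n := finrank F V with hn'
  set q := Fintype.card F with hq
  have hq2 : 2 ≤ q := Fintype.one_lt_card
  have hN0 : 0 < q ^ n - 1 := by
    have := Nat.one_lt_pow (by omega : n ≠ 0) (by omega : 1 < q); omega
  have hpN0 : ¬ p ∣ q ^ n - 1 := fun h => hs.hpN (h.trans (hs.hN n (by omega) le_rfl))
  have hT : ∀ x ∈ nthRootsFinset (q ^ n - 1) (1 : Res M), tSum M F N m n x = tSum M F N m' n x := by
    intro x hx
    rw [mem_nthRootsFinset hN0] at hx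
    obtain ⟨hint, -, -⟩ := natDegree_dvd_of_root (F := F) (by omega : 0 < n) hx
    obtain ⟨k, hk, φ, hu, hφ⟩ := exists_killed (V := V) hx
    have hf := minpoly.irreducible hint
    have hfm := minpoly.monic hint
    have hinj := LinearMap.ker_eq_bot.mp ((LinearMap.isUnit_iff_ker_eq_bot φ).mp hu)
    have hp : IsPrim φ (minpoly F x) := ⟨1, by rw [hφ, pow_one]⟩
    have h1 := h hu.unit
    rw [IsUnit.unit_spec, chiE_value hs hinj hf hfm hp (minpoly.aeval F x),
      chiE_value hs' hinj hf hfm hp (minpoly.aeval F x)] at h1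
    have hg : (gprod (q ^ (minpoly F x).natDegree) (Nat.log (q ^ (minpoly F x).natDegree)
        (Nat.card (LinearMap.ker (aeval φ (minpoly F x))))) : ℂ) ≠ 0 := by
      rw [Int.cast_ne_zero, gprod, Finset.prod_ne_zero_iff]
      intro i hi
      have := Nat.one_lt_pow (by have := (Finset.mem_Ico.mp hi).1; omega : i ≠ 0)
        (Nat.one_lt_pow hf.natDegree_pos.ne' (Fintype.one_lt_card (α := F)))
      rw [sub_ne_zero, ← Nat.cast_pow, ← Nat.cast_one, Ne, Nat.cast_inj]
      exact this.ne
    have h2 := mul_right_cancel₀ hg h1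
    rw [mul_right_inj' (neg_ne_zero.mpr (pow_ne_zero _ (neg_ne_zero.mpr one_ne_zero)))] at h2
    rw [hn', hk, tSum_eq hf hfm (minpoly.aeval F x), tSum_eq hf hfm (minpoly.aeval F x), h2]
  have hL : ∀ (e : ℕ) (x : Res M), x ^ (q ^ n - 1) = 1 → ∀ i,
      liftRoot M N ((x ^ e) ^ q ^ i) = liftRoot M (q ^ n - 1) x ^ (e * q ^ i) := fun e x hx i => by
    rw [← pow_mul x, ← liftRoot_pow hs.hM hpN0 hx,
      liftRoot_of_dvd hs.hM (hs.hN n (by omega) le_rfl) hs.hpN]
    rw [← pow_mul, mul_comm, pow_mul, hx, one_pow]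
  have hsum : ∀ e, ∑ x ∈ nthRootsFinset (q ^ n - 1) (1 : Res M),
      tSum M F N e n x * conj (liftRoot M (q ^ n - 1) x ^ m) =
      ∑ i ∈ Finset.range n, if e * q ^ i ≡ m [MOD q ^ n - 1] then ((q ^ n - 1 : ℕ) : ℂ) else 0 := by
    intro e
    rw [Finset.sum_congr rfl fun i _ => (sum_liftRoot hs.hM hpN0 (e * q ^ i) m).symm, Finset.sum_comm]
    refine Finset.sum_congr rfl fun x hx => ?_
    rw [mem_nthRootsFinset hN0] at hx
    rw [tSum, ← hq, Finset.sum_mul]
    simp only [hL e x hx]
  by_contra hall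
  have h2 := hsum m'
  have h3 : ∑ x ∈ nthRootsFinset (q ^ n - 1) (1 : Res M),
      tSum M F N m n x * conj (liftRoot M (q ^ n - 1) x ^ m) = ∑ x ∈ nthRootsFinset (q ^ n - 1) (1 : Res M),
      tSum M F N m' n x * conj (liftRoot M (q ^ n - 1) x ^ m) :=
    Finset.sum_congr rfl fun x hx => by rw [hT x hx]
  rw [← h3, hsum m,
    Finset.sum_eq_zero (s := Finset.range n)
      (f := fun i => if m' * q ^ i ≡ m [MOD q ^ n - 1] then ((q ^ n - 1 : ℕ) : ℂ) else 0)
      fun i hi => if_neg fun hc => hall ⟨i, Finset.mem_range.mp hi, hc⟩] at h2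
  have hre := congrArg Complex.re h2
  simp only [Complex.re_sum, apply_ite Complex.re, Complex.natCast_re, Complex.zero_re] at hre
  have h0 := (Finset.sum_eq_zero_iff_of_nonneg fun i _ => by split_ifs <;> positivity).mp hre 0
    (Finset.mem_range.mpr (by omega))
  rw [if_pos (by rw [pow_zero, mul_one]), Nat.cast_eq_zero] at h0
  omega

end CfsgLib.Cuspidal
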