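import Cfsg.Agent.Lib.Char.BrauerInduction

/-!
# Sums over fixed points, and powers

* `isGen_sum_fixed`: a conjugation invariant weight which is a generalized character on each
  point stabiliser gives, summed over the fixed points, a generalized character;
* `isGen_comp_pow`: `g ↦ θ (g ^ m)` for `m` prime to the group order.
-/

set_option autoImplicit false

namespace CfsgLib.Cuspidal

open Cfsg CfsgLib.Char

variable {G : Type*} [Group G] [Fintype G] {X : Type*} [MulAction G X] [Fintype X]

open Classical in
/-- The weighted number of fixed points. -/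
noncomputable def fixedSum (w : G → X → ℂ) (g : G) : ℂ :=
  ∑ x ∈ Finset.univ.filter (fun x => g • x = x), w g x

omit [Fintype X] in
open Classical in
theorem indFun_stabilizer (w : G → X → ℂ)
    (hw : ∀ (h g : G) (x : X), w (h * g * h⁻¹) (h • x) = w g x) (x0 : X) (g : G) :
    indFun (MulAction.stabilizer G x0) (fun s => w (s : G) x0) g =
      ∑ x ∈ (Finset.univ.image fun y : G => y • x0).filter (fun x => g • x = x), w g x := by
  have key : ∀ y : G, extendByZero (MulAction.stabilizer G x0) (fun s => w (s : G) x0) (y⁻¹ * g * y) =
      if g • (y • x0) = y • x0 then w g (y • x0) else 0 := by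
    intro y
    by_cases h : y⁻¹ * g * y ∈ MulAction.stabilizer G x0
    · have h' : g • (y • x0) = y • x0 := by
        have := MulAction.mem_stabilizer_iff.mp h
        rw [mul_smul, mul_smul, inv_smul_eq_iff] at this
        exact this
      rw [extendByZero_of_mem _ h, if_pos h']
      have := hw y (y⁻¹ * g * y) x0
      rw [show y * (y⁻¹ * g * y) * y⁻¹ = g by group] at this
      exact this.symm
    · have h' : g • (y • x0) ≠ y • x0 := fun e => h (by
        rw [MulAction.mem_stabilizer_iff, mul_smul, mul_smul, inv_smul_eq_iff]; exact e)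
      rw [extendByZero_of_notMem _ h, if_neg h']
  rw [indFun_apply]
  simp only [key]
  rw [← Finset.sum_fiberwise_of_maps_to (t := Finset.univ.image fun y : G => y • x0)
    (fun y _ => Finset.mem_image_of_mem (fun y : G => y • x0) (Finset.mem_univ y)), Finset.sum_filter,
    Finset.mul_sum]
  refine Finset.sum_congr rfl fun x hx => ?_
  obtain ⟨y0, -, rfl⟩ := Finset.mem_image.mp hx
  rw [Finset.sum_congr rfl (g := fun _ => if g • (y0 • x0) = y0 • x0 then w g (y0 • x0) else 0)
    (fun y hy => by rw [(Finset.mem_filter.mp hy).2]), Finset.sum_const, nsmul_eq_mul, ← mul_assoc]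
  have hc : (Finset.univ.filter fun y : G => y • x0 = y0 • x0).card =
      Nat.card (MulAction.stabilizer G x0) := by
    rw [← Fintype.card_subtype, ← Nat.card_eq_fintype_card]
    refine Nat.card_congr ((Equiv.mulLeft y0⁻¹).subtypeEquiv fun y => ?_)
    rw [Equiv.coe_mulLeft, MulAction.mem_stabilizer_iff, mul_smul, inv_smul_eq_iff]
  rw [hc, inv_mul_cancel₀ (by exact_mod_cast Nat.card_pos.ne'), one_mul]

/-- The weighted number of fixed points is a generalized character. -/
theorem isGen_sum_fixed (w : G → X → ℂ)
    (hw : ∀ (h g : G) (x : X), w (h * g * h⁻¹) (h • x) = w g x)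
    (hgen : ∀ x : X, IsGeneralizedCharacter (MulAction.stabilizer G x) fun s => w (s : G) x) :
    IsGeneralizedCharacter G (fixedSum w) := by
  classical
  have key : ∀ s : Finset X, (∀ (h : G) (x : X), x ∈ s → h • x ∈ s) →
      IsGeneralizedCharacter G (fun g => ∑ x ∈ s.filter (fun x => g • x = x), w g x) := by
    intro s
    induction s using Finset.strongInduction with
    | _ s ih =>
    intro hs
    rcases s.eq_empty_or_nonempty with rfl | ⟨x0, hx0⟩
    · simp only [Finset.filter_empty, Finset.sum_empty]
      exact isGen_zero
    · set O := Finset.univ.image fun y : G => y • x0 with hO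
      have hsub : O ⊆ s := fun x hx => by
        obtain ⟨y, -, rfl⟩ := Finset.mem_image.mp hx
        exact hs y x0 hx0
      have hx0O : x0 ∈ O := Finset.mem_image.mpr ⟨1, Finset.mem_univ _, one_smul G x0⟩
      have hlt : s \ O ⊂ s := Finset.sdiff_ssubset hsub ⟨x0, hx0O⟩
      have hrest := ih _ hlt fun h x hx => by
        rw [Finset.mem_sdiff] at hx ⊢
        refine ⟨hs h x hx.1, fun hO' => hx.2 ?_⟩
        obtain ⟨y, -, hy⟩ := Finset.mem_image.mp hO'
        exact Finset.mem_image.mpr ⟨h⁻¹ * y, Finset.mem_univ _, by rw [mul_smul, hy, inv_smul_smul]⟩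
      have he : (fun g => ∑ x ∈ s.filter (fun x => g • x = x), w g x) =
          indFun (MulAction.stabilizer G x0) (fun t => w (t : G) x0) +
            fun g => ∑ x ∈ (s \ O).filter (fun x => g • x = x), w g x := by
        funext g
        rw [Pi.add_apply, indFun_stabilizer w hw, ← hO, Finset.sum_filter, Finset.sum_filter,
          Finset.sum_filter, add_comm, Finset.sum_sdiff hsub]
      rw [he]
      exact isGen_add (isGen_indFun _ (hgen x0)) hrest
  exact key Finset.univ fun h x _ => Finset.mem_univ _

open Classical in
/-- Precomposition with a power map prime to the order keeps generalized characters. -/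
theorem isGen_comp_pow {θ : G → ℂ} (h : IsGeneralizedCharacter G θ) {m : ℕ}
    (hm : (Nat.card G).Coprime m) : IsGeneralizedCharacter G fun g => θ (g ^ m) := by
  let A : AddSubgroup (G → ℂ) :=
    { carrier := {f | IsGeneralizedCharacter G fun g => f (g ^ m)}
      zero_mem' := isGen_zero
      add_mem' := fun ha hb => isGen_add ha hb
      neg_mem' := fun ha => isGen_neg ha }
  have hle : linSpan G ≤ A := by
    rw [linSpan, AddSubgroup.closure_le]
    rintro _ ⟨E, lam, -, rfl⟩
    show IsGeneralizedCharacter G fun g => indFun E (fun e => (lam e : ℂ)) (g ^ m)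
    have hEm : (Nat.card E).Coprime m :=
      Nat.Coprime.coprime_dvd_left (Subgroup.card_subgroup_dvd_card E) hm
    have he : (fun g => indFun E (fun e => (lam e : ℂ)) (g ^ m)) =
        indFun E (fun e => ((lam ^ m) e : ℂ)) := by
      funext g
      rw [indFun_apply, indFun_apply]
      congr 1
      refine Finset.sum_congr rfl fun x _ => ?_
      have hp : x⁻¹ * g ^ m * x = (x⁻¹ * g * x) ^ m := by
        simpa using (conj_pow (a := x⁻¹) (b := g) (i := m)).symm
      rw [hp]
      generalize x⁻¹ * g * x = y
      by_cases hy : y ∈ E
      · rw [extendByZero_of_mem _ (E.pow_mem hy m), extendByZero_of_mem _ hy, MonoidHom.pow_apply,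
          ← map_pow]
        rfl
      · rw [extendByZero_of_notMem _ hy, extendByZero_of_notMem]
        intro hym
        apply hy
        have := (powCoprime hm).symm_apply_apply y
        rw [powCoprime_apply, powCoprime_symm_apply] at this
        rw [← this]
        exact E.zpow_mem hym _
    rw [he]
    exact isGen_indFun E (isGen_of_irr (isIrrCharacter_units_hom (lam ^ m)))
  exact hle (brauer_induction h)

end CfsgLib.Cuspidal
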