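import Cfsg.Agent.Lib.Cuspidal.Character
import Cfsg.Agent.Lib.Cuspidal.Cusp

/-!
# Cuspidality and the reduction of the norm to the whole space

* `chiE_value`: the value at a primary automorphism;
* `sum_chiE_translates`: vanishing along the translates;
* `sum_chiE_mul_conj`: only the top subspace contributes to the norm.
-/

set_option autoImplicit false

noncomputable section

namespace CfsgLib.Cuspidal

open Cfsg CfsgLib.Blocks CfsgLib.Modular Polynomial Module
open scoped ComplexConjugate

attribute [local instance] CfsgLib.Blocks.resField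

variable {M : Ideal AlgInt} [M.IsMaximal] {F V : Type*} [Field F] [Fintype F] [Algebra F (Res M)]
  [AddCommGroup V] [Module F V] [Finite V] [Nontrivial V] {p N m : ℕ}

theorem chiE_value (hs : Setup F V M p N m) {φ : Module.End F V} (hφ : Function.Injective φ)
    {f : F[X]} (hf : Irreducible f) (hfm : f.Monic) (hp : IsPrim φ f) {x : Res M}
    (hx : aeval x f = 0) :
    chiE M N m φ = -(-1) ^ finrank F V * orbSum M N F (x ^ m) f.natDegree *
      (gprod (Fintype.card F ^ f.natDegree)
        (Nat.log (Fintype.card F ^ f.natDegree) (Nat.card (LinearMap.ker (aeval φ f)))) : ℂ) := by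
  obtain ⟨L, hL, hann⟩ := prim_atom φ hf hp
  exact chiE_prim M N m φ hf hfm hp hx (root_ne_zero φ hφ hL hf hfm hann hx)
    (hs.hcod _ hf.natDegree_pos (degree_le φ hL hfm hann))

omit [Fintype F] [Nontrivial V] in
theorem injective_add {φ : Module.End F V} (hφ : Function.Injective φ) {U : Submodule F V}
    (hU : U ≤ U.comap φ) {T : Module.End F V} (hT : T ∈ radEnd U) : Function.Injective (φ + T) := by
  have : FiniteDimensional F V := Module.Finite.of_finite
  have hUe : U.map φ = U := by
    refine Submodule.eq_of_le_of_finrank_eq (Submodule.map_le_iff_le_comap.mpr hU) ?_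
    exact (Submodule.equivMapOfInjective φ hφ U).finrank_eq.symm
  rw [injective_iff_map_eq_zero]
  intro v hv
  rw [LinearMap.add_apply, add_eq_zero_iff_eq_neg] at hv
  obtain ⟨u, hu, he⟩ : φ v ∈ U.map φ := by rw [hUe, hv]; exact U.neg_mem (hT.1 v)
  obtain rfl := hφ he
  rw [hT.2 u hu, neg_zero] at hv
  exact hφ (hv.trans (map_zero φ).symm)

omit [Fintype F] [Nontrivial V] in
theorem wgt_add {φ : Module.End F V} {U : Submodule F V} (hU : U ≤ U.comap φ) {T : Module.End F V}
    (hT : T ∈ radEnd U) : wgt M N m (φ + T) U = wgt M N m φ U := by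
  rw [wgt, wgt, muG_congr (φ + T) φ U (add_invariant hU hT)
    (fun v hv => by rw [LinearMap.add_apply, hT.2 v hv, add_zero]),
    rs_congr M N ((φ + T) ^ m) (φ ^ m) (pow_invariant m (φ + T) (add_invariant hU hT)) fun v hv => ?_]
  have := aeval_add_on hU hT (X ^ m) hv
  rwa [map_pow, map_pow, aeval_X, aeval_X] at this

/-- The vanishing along translates. -/
theorem sum_chiE_translates (hs : Setup F V M p N m) {φ : Module.End F V} (hφ : Function.Injective φ)
    {U : Submodule F V} (hU : U ≤ U.comap φ) (hbot : U ≠ ⊥) (htop : U ≠ ⊤) [Fintype (radEnd U)]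
    (hkill : ∀ f : F[X], Irreducible f → f.Monic → IsPrim φ f → ∀ u ∈ U, aeval φ f u = 0) :
    ∑ T : radEnd U, chiE M N m (φ + T.1) = 0 := by
  by_cases h : ∃ f : F[X], Irreducible f ∧ f.Monic ∧ IsPrim φ f
  · obtain ⟨f, hf, hfm, hp⟩ := h
    obtain ⟨x, hx⟩ := exists_root (M := M) hf
    rw [Finset.sum_congr rfl fun T _ =>
      chiE_value hs (injective_add hφ hU T.2) hf hfm (isPrim_add hU T.2 hp) hx, ← Finset.mul_sum,
      ← Int.cast_sum]
    have h0 := sum_translates hU hbot htop hf (PerfectField.separable_of_irreducible hf) hfm hp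
      (hkill f hf hfm hp)
    rw [card_quotient_span f hfm, Nat.card_eq_fintype_card (α := F)] at h0
    rw [h0, Int.cast_zero, mul_zero]
  · refine Finset.sum_eq_zero fun T _ => chiE_not_prim M N m _ fun f hf hfm hp => h ⟨f, hf, hfm, ?_⟩
    have := isPrim_add (add_invariant hU T.2) ((radEnd U).neg_mem T.2) hp
    rwa [add_neg_cancel_right] at this

variable [Fintype (Module.End F V)ˣ]

open Classical in
/-- Only the top subspace contributes. -/
theorem sum_chiE_mul_conj (hs : Setup F V M p N m) :
    ∑ g : (Module.End F V)ˣ, chiE M N m (g : Module.End F V) * conj (chiE M N m (g : Module.End F V)) =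
      (-1) ^ finrank F V * ∑ g : (Module.End F V)ˣ,
        chiE M N m (g : Module.End F V) * conj (wgt M N m (g : Module.End F V) ⊤) := by
  have : FiniteDimensional F V := Module.Finite.of_finite
  have := Fintype.ofFinite (Submodule F V)
  have := Fintype.ofFinite (Module.End F V)
  have h1 : ∀ g : (Module.End F V)ˣ,
      chiE M N m (g : Module.End F V) * conj (chiE M N m (g : Module.End F V)) =
        (-1) ^ finrank F V * ∑ U : Submodule F V, if U ≤ U.comap (g : Module.End F V) then
          chiE M N m (g : Module.End F V) * conj (wgt M N m (g : Module.End F V) U) else 0 := by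
    intro g
    have he : invSet (g : Module.End F V) =
        Finset.univ.filter fun U : Submodule F V => U ≤ U.comap (g : Module.End F V) := by
      ext U; simp [mem_invSet]
    conv_lhs => arg 2; rw [chiE, map_mul, map_pow, map_neg, map_one, map_sum, he]
    rw [← Finset.sum_filter, ← Finset.mul_sum]
    ring
  rw [Finset.sum_congr rfl fun g _ => h1 g, ← Finset.mul_sum, Finset.sum_comm]
  congr 1
  rw [Finset.sum_eq_single (⊤ : Submodule F V)]
  · exact Finset.sum_congr rfl fun g _ => if_pos fun v _ => Submodule.mem_top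
  swap
  · exact fun h => absurd (Finset.mem_univ _) h
  intro U _ htop
  by_cases hbot : U = ⊥
  · subst hbot
    refine Finset.sum_eq_zero fun g _ => ?_
    simp [wgt, rs_bot]
  set S := Finset.univ.filter fun φ : Module.End F V => IsUnit φ ∧ U ≤ U.comap φ with hS
  set Φ : Module.End F V → ℂ := fun φ => chiE M N m φ * conj (wgt M N m φ U) with hΦ
  rw [← Finset.sum_filter]
  have hA : ∑ g ∈ Finset.univ.filter (fun g : (Module.End F V)ˣ => U ≤ U.comap (g : Module.End F V)),
      Φ (g : Module.End F V) = ∑ φ ∈ S, Φ φ := by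
    refine Finset.sum_bij (fun g _ => (g : Module.End F V)) (fun g hg => ?_)
      (fun _ _ _ _ h => Units.ext h) (fun φ hφ => ?_) fun _ _ => rfl
    · exact Finset.mem_filter.mpr ⟨Finset.mem_univ _, g.isUnit, (Finset.mem_filter.mp hg).2⟩
    · obtain ⟨hu, hinv⟩ := (Finset.mem_filter.mp hφ).2
      exact ⟨hu.unit, Finset.mem_filter.mpr ⟨Finset.mem_univ _, hinv⟩, rfl⟩
  show ∑ g ∈ Finset.univ.filter (fun g : (Module.End F V)ˣ => U ≤ U.comap (g : Module.End F V)),
      Φ (g : Module.End F V) = 0
  rw [hA]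
  have hstable : ∀ T ∈ radEnd U, ∀ φ ∈ S, φ + T ∈ S := by
    intro T hT φ hφ
    obtain ⟨hu, hinv⟩ := (Finset.mem_filter.mp hφ).2
    refine Finset.mem_filter.mpr ⟨Finset.mem_univ _, ?_, add_invariant hinv hT⟩
    exact (LinearMap.isUnit_iff_ker_eq_bot (φ + T)).mpr (LinearMap.ker_eq_bot.mpr
      (injective_add (LinearMap.ker_eq_bot.mp ((LinearMap.isUnit_iff_ker_eq_bot φ).mp hu)) hinv hT))
  have hzero : ∀ φ ∈ S, ∑ T : radEnd U, Φ (φ + T.1) = 0 := by
    intro φ hφ
    obtain ⟨hu, hinv⟩ := (Finset.mem_filter.mp hφ).2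
    have hinj := LinearMap.ker_eq_bot.mp ((LinearMap.isUnit_iff_ker_eq_bot φ).mp hu)
    simp only [hΦ]
    rw [Finset.sum_congr rfl fun T _ => by rw [wgt_add hinv T.2], ← Finset.sum_mul]
    by_cases hmu : muG φ U = 0
    · simp [wgt, hmu]
    rw [sum_chiE_translates hs hinj hinv hbot htop fun f hf _ hp =>
      kills_of_muG φ hinv hmu fun L hL => by
        rw [ann_eq_of_prim φ hf hp hL]; exact Ideal.mem_span_singleton_self f, zero_mul]
  have hshift : ∀ T : radEnd U, ∑ φ ∈ S, Φ (φ + T.1) = ∑ φ ∈ S, Φ φ := fun T => by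
    refine Finset.sum_bij' (fun φ _ => φ + T.1) (fun φ _ => φ - T.1)
      (fun φ hφ => hstable _ T.2 φ hφ) (fun φ hφ => ?_) (fun φ _ => add_sub_cancel_right φ T.1)
      (fun φ _ => sub_add_cancel φ T.1) fun φ _ => rfl
    rw [sub_eq_add_neg]
    exact hstable _ ((radEnd U).neg_mem T.2) φ hφ
  have h2 : ∑ T : radEnd U, ∑ φ ∈ S, Φ (φ + T.1) = 0 := by
    rw [Finset.sum_comm]
    exact Finset.sum_eq_zero hzero
  rw [Finset.sum_congr rfl fun T _ => hshift T, Finset.sum_const, nsmul_eq_mul, mul_eq_zero] at h2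
  exact h2.resolve_left (by exact_mod_cast Finset.card_ne_zero.mpr ⟨0, Finset.mem_univ _⟩)

end CfsgLib.Cuspidal
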