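import Cfsg.Agent.Lib.Cuspidal.Mu

/-!
# Atoms and splittings in finite semisimple submodules

* `ann_isMaximal`, `atom_span`, `card_atom`, `atom_span_of_eq`;
* `exists_lift`, `count`: the submodules off a hyperplane `H` with a given intersection;
* `mu_off`: `mu U = - T(U ⊓ H) * mu (U ⊓ H)`.
-/

set_option autoImplicit false

namespace CfsgLib.Cuspidal

variable {R M : Type*} [CommRing R] [AddCommGroup M] [Module R M]

/-- The part of a submodule killed by an ideal. -/
def killed (I : Ideal R) (A : Submodule R M) : Submodule R M :=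
  A ⊓ Submodule.torsionBySet R M (I : Set R)

theorem mem_killed {I : Ideal R} {A : Submodule R M} {x : M} :
    x ∈ killed I A ↔ x ∈ A ∧ ∀ r ∈ I, r • x = 0 := by
  rw [killed, Submodule.mem_inf, Submodule.mem_torsionBySet_iff]
  exact and_congr_right fun _ => ⟨fun h r hr => h ⟨r, hr⟩, fun h a => h a a.2⟩

theorem killed_bot (I : Ideal R) : killed I (⊥ : Submodule R M) = ⊥ := bot_inf_eq _

theorem killed_mono (I : Ideal R) {A B : Submodule R M} (h : A ≤ B) : killed I A ≤ killed I B :=
  inf_le_inf_right _ h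

theorem span_eq_of_mem {L : Submodule R M} (hL : IsAtom L) {l : M} (hl : l ∈ L) (h0 : l ≠ 0) :
    Submodule.span R {l} = L :=
  (hL.le_iff.mp ((Submodule.span_singleton_le_iff_mem l L).mpr hl)).resolve_left
    (fun h => h0 (Submodule.span_singleton_eq_bot.mp h))

theorem exists_smul_eq {L : Submodule R M} (hL : IsAtom L) {l l' : M} (hl : l ∈ L) (h0 : l ≠ 0)
    (hl' : l' ∈ L) : ∃ t : R, t • l = l' :=
  Submodule.mem_span_singleton.mp (by rwa [span_eq_of_mem hL hl h0])

theorem exists_ne_zero_mem {L : Submodule R M} (hL : L ≠ ⊥) : ∃ l ∈ L, l ≠ 0 :=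
  (Submodule.ne_bot_iff L).mp hL

theorem mem_ann_iff {L : Submodule R M} (hL : IsAtom L) {l : M} (hl : l ∈ L) (h0 : l ≠ 0) {r : R} :
    r ∈ L.annihilator ↔ r • l = 0 := by
  refine ⟨fun h => Submodule.mem_annihilator.mp h l hl, fun h => Submodule.mem_annihilator.mpr ?_⟩
  intro x hx
  obtain ⟨t, rfl⟩ := exists_smul_eq hL hl h0 hx
  rw [smul_comm, h, smul_zero]

theorem ann_isMaximal {L : Submodule R M} (hL : IsAtom L) : L.annihilator.IsMaximal := by
  obtain ⟨l, hl, h0⟩ := exists_ne_zero_mem hL.1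
  rw [Ideal.isMaximal_iff]
  refine ⟨fun h => h0 (by rw [← one_smul R l]; exact Submodule.mem_annihilator.mp h l hl), ?_⟩
  intro J r hJ hr hrJ
  have hrl : r • l ≠ 0 := fun h => hr ((mem_ann_iff hL hl h0).mpr h)
  obtain ⟨t, ht⟩ := exists_smul_eq hL (L.smul_mem r hl) hrl hl
  have h1 : 1 - t * r ∈ L.annihilator := by
    rw [mem_ann_iff hL hl h0, sub_smul, one_smul, mul_smul, ht, sub_self]
  have := J.add_mem (hJ h1) (J.mul_mem_left t hrJ)
  rwa [sub_add_cancel] at this

theorem smul_ne_zero_of_notMem {I : Ideal R} (hI : I.IsMaximal) {y : M} (h0 : y ≠ 0)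
    (hy : ∀ r ∈ I, r • y = 0) {r : R} (hr : r ∉ I) : r • y ≠ 0 := by
  intro h
  obtain ⟨t, i, hi, he⟩ := hI.exists_inv hr
  apply h0
  rw [← one_smul R y, ← he, add_smul, mul_smul, h, smul_zero, hy i hi, add_zero]

theorem atom_span {I : Ideal R} (hI : I.IsMaximal) {y : M} (h0 : y ≠ 0) (hy : ∀ r ∈ I, r • y = 0) :
    IsAtom (Submodule.span R {y}) ∧ (Submodule.span R {y}).annihilator = I := by
  have hann : (Submodule.span R {y}).annihilator = I := by
    refine le_antisymm (fun r hr => ?_) fun r hr => ?_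
    · by_contra h
      exact smul_ne_zero_of_notMem hI h0 hy h
        (Submodule.mem_annihilator.mp hr y (Submodule.mem_span_singleton_self y))
    · exact (Submodule.mem_annihilator_span_singleton y r).mpr (hy r hr)
  refine ⟨⟨fun h => h0 (Submodule.span_singleton_eq_bot.mp h), fun B hB => ?_⟩, hann⟩
  by_contra hne
  obtain ⟨z, hz, hz0⟩ := exists_ne_zero_mem hne
  obtain ⟨r, rfl⟩ := Submodule.mem_span_singleton.mp (hB.le hz)
  have hr : r ∉ I := fun h => hz0 (hy r h)
  obtain ⟨t, i, hi, he⟩ := hI.exists_inv hr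
  refine hB.not_ge ((Submodule.span_singleton_le_iff_mem y B).mpr ?_)
  have : y = t • r • y := by
    conv_lhs => rw [← one_smul R y, ← he, add_smul, mul_smul, hy i hi, add_zero]
  rw [this]
  exact B.smul_mem t hz

theorem ann_eq_of_killed {L A : Submodule R M} (hL : IsAtom L) (hA : IsAtom A) {x : M} (hx : x ∈ A)
    (h0 : x ≠ 0) (hk : ∀ r ∈ L.annihilator, r • x = 0) : A.annihilator = L.annihilator := by
  rw [← span_eq_of_mem hA hx h0]
  exact (atom_span (ann_isMaximal hL) h0 hk).2

theorem card_atom {L : Submodule R M} (hL : IsAtom L) :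
    Nat.card L = Nat.card (R ⧸ L.annihilator) := by
  obtain ⟨l, hl, h0⟩ := exists_ne_zero_mem hL.1
  let f : R →ₗ[R] L := LinearMap.toSpanSingleton R L ⟨l, hl⟩
  have hf : LinearMap.ker f = L.annihilator := by
    ext r
    rw [LinearMap.mem_ker, mem_ann_iff hL hl h0]
    exact Subtype.ext_iff
  have hs : Function.Surjective f := fun z => by
    obtain ⟨t, ht⟩ := exists_smul_eq hL hl h0 z.2
    exact ⟨t, Subtype.ext ht⟩
  rw [← hf]
  exact (Nat.card_congr (f.quotKerEquivOfSurjective hs).toEquiv).symm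

section Split

variable [Finite M] {S H L : Submodule R M}

theorem exists_split (hS : soc S = S) {L : Submodule R M} (hLS : L ≤ S) :
    ∃ H : Submodule R M, H ≤ S ∧ Disjoint H L ∧ H ⊔ L = S := by
  obtain ⟨c, h1, h2, h3⟩ := exists_compl hS hLS
  exact ⟨c, h1, h2.symm, by rw [sup_comm]; exact h3⟩

theorem exists_lift (hS : soc S = S) (hL : IsAtom L) (hsup : H ⊔ L = S) {W : Submodule R M}
    (hW : W ≤ S) (hWH : ¬ W ≤ H) {l0 : M} (hl0 : l0 ∈ L) :
    ∃ x ∈ H, x + l0 ∈ W ∧ ∀ r ∈ L.annihilator, r • x = 0 := by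
  obtain ⟨C, hCW, hdC, hsupC⟩ := exists_compl (soc_of_le hS hW) (inf_le_left : W ⊓ H ≤ W)
  have hC : C ≠ ⊥ := fun h => hWH (by rw [h, sup_bot_eq] at hsupC; exact hsupC.ge.trans inf_le_right)
  obtain ⟨y, hy, hy0⟩ := exists_ne_zero_mem hC
  obtain ⟨h, hh, l, hl, rfl⟩ := Submodule.mem_sup.mp (hsup.ge (hW (hCW hy)))
  have hl0' : l ≠ 0 := by
    rintro rfl
    rw [add_zero] at hy hy0
    exact hy0 (Submodule.disjoint_def.mp hdC h ⟨hCW hy, hh⟩ hy)
  have hrh : ∀ r ∈ L.annihilator, r • h = 0 := by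
    intro r hr
    have h1 : r • h ∈ C := by
      have := C.smul_mem r hy
      rwa [smul_add, Submodule.mem_annihilator.mp hr l hl, add_zero] at this
    exact Submodule.disjoint_def.mp hdC _ ⟨hCW h1, H.smul_mem r hh⟩ h1
  obtain ⟨t, rfl⟩ := exists_smul_eq hL hl hl0' hl0
  refine ⟨t • h, H.smul_mem t hh, ?_, fun r hr => by rw [smul_comm, hrh r hr, smul_zero]⟩
  rw [← smul_add]
  exact W.smul_mem t (hCW hy)

variable [Fintype (Submodule R M)]

open Classical in
/-- The submodules of `U` off `H` meeting `H` in `B`. -/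
noncomputable def offSet (H U B : Submodule R M) : Finset (Submodule R M) :=
  Finset.univ.filter fun W => W ≤ U ∧ ¬ W ≤ H ∧ W ⊓ H = B

theorem mem_offSet {H U B W : Submodule R M} : W ∈ offSet H U B ↔ W ≤ U ∧ ¬ W ≤ H ∧ W ⊓ H = B := by
  simp [offSet]

theorem count (hS : soc S = S) (hL : IsAtom L) (hdis : Disjoint H L) (hsup : H ⊔ L = S)
    {U B : Submodule R M} (hU : U ≤ S) (hUH : ¬ U ≤ H) (hB : B ≤ U ⊓ H) :
    (offSet H U B).card * Nat.card (killed L.annihilator B) =
      Nat.card (killed L.annihilator (U ⊓ H)) := by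
  classical
  have := Fintype.ofFinite M
  set I := L.annihilator with hI
  obtain ⟨l0, hl0, hl0ne⟩ := exists_ne_zero_mem hL.1
  obtain ⟨x0, hx0H, hx0U, hx0⟩ := exists_lift hS hL hsup hU hUH hl0
  have hcoef : ∀ {r : R} {h : M}, h ∈ H → h + r • l0 ∈ H → r ∈ I := by
    intro r h hh hmem
    rw [hI, mem_ann_iff hL hl0 hl0ne]
    exact Submodule.disjoint_def.mp hdis _ (by simpa using H.sub_mem hmem hh) (L.smul_mem r hl0)
  let φ : killed I (U ⊓ H) → Submodule R M := fun a => B ⊔ Submodule.span R {(x0 + a.1) + l0}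
  have hmem : ∀ a, φ a ∈ offSet H U B := by
    intro a
    obtain ⟨haA, hak⟩ := mem_killed.mp a.2
    have hx : x0 + a.1 ∈ H := H.add_mem hx0H haA.2
    rw [mem_offSet]
    refine ⟨sup_le (hB.trans inf_le_left) ((Submodule.span_singleton_le_iff_mem _ _).mpr ?_), ?_, ?_⟩
    · rw [add_right_comm]
      exact U.add_mem hx0U haA.1
    · intro hle
      have h1 := hle (Submodule.mem_sup_right (Submodule.mem_span_singleton_self _))
      refine hl0ne (Submodule.disjoint_def.mp hdis _ ?_ hl0)
      simpa using H.sub_mem h1 hx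
    · refine le_antisymm (fun z hz => ?_) (le_inf le_sup_left (hB.trans inf_le_right))
      obtain ⟨hz1, hz2⟩ := hz
      obtain ⟨b, hb, w, hw, rfl⟩ := Submodule.mem_sup.mp hz1
      obtain ⟨r, rfl⟩ := Submodule.mem_span_singleton.mp hw
      have hr : r ∈ I := by
        refine hcoef (h := b + r • (x0 + a.1))
          (H.add_mem ((hB.trans inf_le_right) hb) (H.smul_mem r hx)) ?_
        rw [add_assoc, ← smul_add]; exact hz2
      rw [smul_add, smul_add, hx0 r hr, hak r hr, Submodule.mem_annihilator.mp hr l0 hl0, add_zero,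
        add_zero, add_zero]
      exact hb
  have hfib : ∀ W ∈ offSet H U B, (Finset.univ.filter fun a => φ a = W).card =
      Nat.card (killed I B) := by
    intro W hW
    obtain ⟨hWU, hWH, hWB⟩ := mem_offSet.mp hW
    obtain ⟨x, hxH, hxW, hxk⟩ := exists_lift hS hL hsup (hWU.trans hU) hWH hl0
    have hd : x - x0 ∈ killed I (U ⊓ H) := by
      refine mem_killed.mpr ⟨⟨?_, H.sub_mem hxH hx0H⟩, fun r hr => by
        rw [smul_sub, hxk r hr, hx0 r hr, sub_zero]⟩
      simpa using U.sub_mem (hWU hxW) hx0U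
    have hW' : W = B ⊔ Submodule.span R {x + l0} := by
      refine le_antisymm (fun w hw => ?_) (sup_le (hWB.ge.trans inf_le_left)
        ((Submodule.span_singleton_le_iff_mem _ _).mpr hxW))
      obtain ⟨h, hh, l, hl, rfl⟩ := Submodule.mem_sup.mp (hsup.ge (hU (hWU hw)))
      obtain ⟨r, rfl⟩ := exists_smul_eq hL hl0 hl0ne hl
      refine Submodule.mem_sup.mpr ⟨h - r • x, ?_, r • (x + l0),
        Submodule.smul_mem _ r (Submodule.mem_span_singleton_self _), by rw [smul_add]; abel⟩
      rw [← hWB]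
      refine ⟨?_, H.sub_mem hh (H.smul_mem r hxH)⟩
      have := W.sub_mem hw (W.smul_mem r hxW)
      rwa [smul_add, add_sub_add_right_eq_sub] at this
    have hiff : ∀ a, φ a = W ↔ a.1 - (x - x0) ∈ B := by
      intro a
      constructor
      · intro h
        have hmW : x0 + a.1 + l0 ∈ W :=
          h ▸ Submodule.mem_sup_right (Submodule.mem_span_singleton_self _)
        rw [← hWB]
        refine ⟨?_, H.sub_mem (mem_killed.mp a.2).1.2 (H.sub_mem hxH hx0H)⟩
        have := W.sub_mem hmW hxW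
        rwa [show x0 + a.1 + l0 - (x + l0) = a.1 - (x - x0) by abel] at this
      · intro h
        rw [hW']
        have e : x0 + a.1 + l0 = (a.1 - (x - x0)) + (x + l0) := by abel
        refine le_antisymm (sup_le le_sup_left ((Submodule.span_singleton_le_iff_mem _ _).mpr ?_))
          (sup_le le_sup_left ((Submodule.span_singleton_le_iff_mem _ _).mpr ?_))
        · rw [e]
          exact add_mem (Submodule.mem_sup_left h)
            (Submodule.mem_sup_right (Submodule.mem_span_singleton_self _))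
        · rw [show x + l0 = (x0 + a.1 + l0) - (a.1 - (x - x0)) by abel]
          exact sub_mem (Submodule.mem_sup_right (Submodule.mem_span_singleton_self _))
            (Submodule.mem_sup_left h)
    rw [← Fintype.card_subtype, ← Nat.card_eq_fintype_card]
    refine Nat.card_congr
      { toFun := fun a => ⟨a.1.1 - (x - x0), mem_killed.mpr ⟨(hiff a.1).mp a.2, fun r hr => by
          rw [smul_sub, (mem_killed.mp a.1.2).2 r hr, (mem_killed.mp hd).2 r hr, sub_zero]⟩⟩
        invFun := fun b => ⟨⟨b.1 + (x - x0), (killed I (U ⊓ H)).add_mem (killed_mono I hB b.2) hd⟩,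
          (hiff _).mpr (by simpa using (mem_killed.mp b.2).1)⟩
        left_inv := fun a => Subtype.ext (Subtype.ext (sub_add_cancel _ _))
        right_inv := fun b => Subtype.ext (add_sub_cancel_right _ _) }
  rw [Nat.card_eq_fintype_card (α := killed I (U ⊓ H)), ← Finset.card_univ,
    Finset.card_eq_sum_card_fiberwise fun a _ => hmem a, Finset.sum_congr rfl hfib, Finset.sum_const,
    smul_eq_mul]

/-- The value of `mu` off a hyperplane. -/
theorem mu_off (hS : soc S = S) (hL : IsAtom L) (hdis : Disjoint H L) (hsup : H ⊔ L = S)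
    (U : Submodule R M) : U ≤ S → ¬ U ≤ H →
      mu U = -(Nat.card (killed L.annihilator (U ⊓ H)) : ℤ) * mu (U ⊓ H) := by
  classical
  induction U using (wellFounded_lt (α := Submodule R M)).induction with
  | _ U ih =>
  intro hU hUH
  set I := L.annihilator with hI
  set A := U ⊓ H with hA
  set T : Submodule R M → ℤ := fun B => (Nat.card (killed I B) : ℤ) with hT
  have hne : U ≠ ⊥ := fun h => hUH (h ▸ bot_le)
  have h0 := sum_mu U (Finset.univ.filter fun W => W ≤ U) (fun W => by simp)
  rw [if_neg hne, ← Finset.sum_filter_add_sum_filter_not _ (fun W => W ≤ H), Finset.filter_filter,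
    Finset.filter_filter, sum_mu A _ (fun W => by simp [hA, le_inf_iff])] at h0
  set Off := Finset.univ.filter fun W : Submodule R M => W ≤ U ∧ ¬ W ≤ H with hOff
  have hUoff : U ∈ Off := by simp [hOff, hUH]
  have hsplit : ∑ W ∈ Off, mu W = (mu U + T A * mu A) + ∑ W ∈ Off, -(T (W ⊓ H) * mu (W ⊓ H)) := by
    rw [← Finset.add_sum_erase _ _ hUoff, ← Finset.add_sum_erase _ _ hUoff, ← add_assoc]
    congr 1
    · rw [← hA]; ring
    · refine Finset.sum_congr rfl fun W hW => ?_
      obtain ⟨hne', hW'⟩ := Finset.mem_erase.mp hW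
      rw [hOff, Finset.mem_filter] at hW'
      rw [ih W (lt_of_le_of_ne hW'.2.1 hne') (hW'.2.1.trans hU) hW'.2.2]
      ring
  have hgroup : ∑ W ∈ Off, -(T (W ⊓ H) * mu (W ⊓ H)) = -(T A * if A = ⊥ then 1 else 0) := by
    rw [← Finset.sum_fiberwise_of_maps_to (t := Finset.univ.filter fun B => B ≤ A)
      (g := fun W => W ⊓ H) (fun W hW => Finset.mem_filter.mpr ⟨Finset.mem_univ _,
        inf_le_inf_right H (Finset.mem_filter.mp hW).2.1⟩),
      ← sum_mu A (Finset.univ.filter fun B => B ≤ A) (fun B => by simp), Finset.mul_sum,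
      ← Finset.sum_neg_distrib]
    refine Finset.sum_congr rfl fun B hB => ?_
    rw [Finset.sum_congr rfl (g := fun _ => -(T B * mu B))
      (fun W hW => by rw [(Finset.mem_filter.mp hW).2]), Finset.sum_const, hOff, Finset.filter_filter]
    have hc := count hS hL hdis hsup hU hUH (Finset.mem_filter.mp hB).2
    rw [nsmul_eq_mul]
    have he : (Finset.univ.filter fun W : Submodule R M => (W ≤ U ∧ ¬ W ≤ H) ∧ W ⊓ H = B) =
        offSet H U B := by
      ext W; simp [mem_offSet, and_assoc]
    rw [he, mul_neg, ← mul_assoc]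
    simp only [hT, hI]
    rw [← Nat.cast_mul, hc]
  have hTA : T A * (if A = ⊥ then 1 else 0) = if A = ⊥ then 1 else 0 := by
    by_cases h : A = ⊥
    · simp [hT, h, killed_bot]
    · simp [h]
  rw [hsplit, hgroup, hTA] at h0
  show mu U = -T A * mu A
  linarith

end Split

end CfsgLib.Cuspidal
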