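import Cfsg.Agent.Lib.Cuspidal.Socle

/-!
# The sum `∑ mu U * P U` over a semisimple submodule

* `hsum_mixed`: it vanishes when two types of atoms occur;
* `iso_formulas`: its value, and the values of `mu` and `P`, when one type occurs.
-/

set_option autoImplicit false

namespace CfsgLib.Cuspidal

variable {R M : Type*} [CommRing R] [AddCommGroup M] [Module R M] [Finite M]

/-- An additive weight on semisimple submodules. -/
structure IsWeight (P : Submodule R M → ℂ) : Prop where
  bot : P ⊥ = 0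
  sup : ∀ A L : Submodule R M, soc A = A → IsAtom L → Disjoint A L → P (A ⊔ L) = P A + P L
  ann : ∀ L L' : Submodule R M, IsAtom L → IsAtom L' → L.annihilator = L'.annihilator → P L = P L'

variable [Fintype (Submodule R M)]

open Classical in
/-- The sum of `mu U * P U` over the submodules of `S`. -/
noncomputable def hsum (P : Submodule R M → ℂ) (S : Submodule R M) : ℂ :=
  ∑ U ∈ Finset.univ.filter (fun U => U ≤ S), (mu U : ℂ) * P U

omit [Finite M] [Fintype (Submodule R M)] in
theorem card_mul_card {S H L : Submodule R M} (hdis : Disjoint H L) (hsup : H ⊔ L = S) :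
    Nat.card S = Nat.card H * Nat.card L := by
  rw [← Nat.card_prod]
  let f : H × L → S := fun z => ⟨z.1.1 + z.2.1, hsup.le (Submodule.add_mem_sup z.1.2 z.2.2)⟩
  refine (Nat.card_congr (Equiv.ofBijective f ⟨fun a b e => ?_, fun z => ?_⟩)).symm
  · have e' : a.1.1 + a.2.1 = b.1.1 + b.2.1 := congrArg Subtype.val e
    have h1 : a.1.1 - b.1.1 = b.2.1 - a.2.1 := by
      rw [sub_eq_sub_iff_add_eq_add, e', add_comm]
    have h2 := Submodule.disjoint_def.mp hdis _ (H.sub_mem a.1.2 b.1.2) (h1 ▸ L.sub_mem b.2.2 a.2.2)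
    refine Prod.ext (Subtype.ext (sub_eq_zero.mp h2)) (Subtype.ext ?_)
    rw [h2] at h1
    exact (sub_eq_zero.mp h1.symm).symm
  · obtain ⟨a, ha, b, hb, e⟩ := Submodule.mem_sup.mp (hsup.ge z.2)
    exact ⟨(⟨a, ha⟩, ⟨b, hb⟩), Subtype.ext e⟩

variable {P : Submodule R M → ℂ}

theorem hsum_split (hP : IsWeight P) {S H L : Submodule R M} (hS : soc S = S) (hL : IsAtom L)
    (hdis : Disjoint H L) (hsup : H ⊔ L = S) [Decidable (H = ⊥)] :
    hsum P S = (1 - (Nat.card (killed L.annihilator H) : ℂ)) * hsum P H -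
      if H = ⊥ then P L else 0 := by
  classical
  set I := L.annihilator with hI
  have hHS : H ≤ S := hsup ▸ le_sup_left
  obtain ⟨l0, hl0, hl0ne⟩ := exists_ne_zero_mem hL.1
  have hLS : L ≤ S := hsup ▸ le_sup_right
  have hSH : ¬ S ≤ H := fun h => hL.1 (le_bot_iff.mp (hdis.le_bot.trans' (le_inf (hLS.trans h) le_rfl)))
  have hPU : ∀ U : Submodule R M, U ≤ S → ¬ U ≤ H → P U = P (U ⊓ H) + P L := by
    intro U hU hUH
    obtain ⟨x, hxH, hxU, hxk⟩ := exists_lift hS hL hsup hU hUH hl0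
    set y := x + l0 with hy
    have hyH : y ∉ H := fun h => hl0ne (Submodule.disjoint_def.mp hdis _
      (by simpa [hy] using H.sub_mem h hxH) hl0)
    have hy0 : y ≠ 0 := fun h => hyH (h ▸ H.zero_mem)
    have hyk : ∀ r ∈ I, r • y = 0 := fun r hr => by
      rw [hy, smul_add, hxk r hr, Submodule.mem_annihilator.mp hr l0 hl0, add_zero]
    obtain ⟨hat, hann⟩ := atom_span (ann_isMaximal hL) hy0 hyk
    have hd : Disjoint (U ⊓ H) (Submodule.span R {y}) :=
      ((IsAtom.not_le_iff_disjoint hat).mp fun h =>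
        hyH (h (Submodule.mem_span_singleton_self y) : y ∈ U ⊓ H).2).symm
    have he : U ⊓ H ⊔ Submodule.span R {y} = U := by
      refine le_antisymm (sup_le inf_le_left ((Submodule.span_singleton_le_iff_mem y U).mpr hxU))
        fun u hu => ?_
      obtain ⟨h, hh, l, hl, rfl⟩ := Submodule.mem_sup.mp (hsup.ge (hU hu))
      obtain ⟨r, rfl⟩ := exists_smul_eq hL hl0 hl0ne hl
      refine Submodule.mem_sup.mpr ⟨h - r • x, ⟨?_, H.sub_mem hh (H.smul_mem r hxH)⟩, r • y,
        Submodule.smul_mem _ r (Submodule.mem_span_singleton_self y), by rw [hy, smul_add]; abel⟩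
      have := U.sub_mem hu (U.smul_mem r hxU)
      rwa [smul_add, add_sub_add_right_eq_sub] at this
    conv_lhs => rw [← he]
    rw [hP.sup _ _ (soc_of_le hS (inf_le_left.trans hU)) hat hd, hP.ann _ L hat hL hann]
  rw [hsum, ← Finset.sum_filter_add_sum_filter_not _ (fun W => W ≤ H), Finset.filter_filter,
    Finset.filter_filter]
  have h1 : (Finset.univ.filter fun W : Submodule R M => W ≤ S ∧ W ≤ H) =
      Finset.univ.filter fun W => W ≤ H := by
    ext W; simp only [Finset.mem_filter, Finset.mem_univ, true_and]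
    exact ⟨And.right, fun h => ⟨h.trans hHS, h⟩⟩
  rw [h1]
  set Off := Finset.univ.filter fun W : Submodule R M => W ≤ S ∧ ¬ W ≤ H with hOff
  have h2 : ∑ W ∈ Off, (mu W : ℂ) * P W =
      -(Nat.card (killed I H) : ℂ) * ∑ B ∈ Finset.univ.filter (fun B => B ≤ H),
        ((mu B : ℂ) * (P B + P L)) := by
    rw [← Finset.sum_fiberwise_of_maps_to (t := Finset.univ.filter fun B => B ≤ H)
      (g := fun W => W ⊓ H) (fun W _ => Finset.mem_filter.mpr ⟨Finset.mem_univ _, inf_le_right⟩),
      Finset.mul_sum]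
    refine Finset.sum_congr rfl fun B hB => ?_
    have hBH := (Finset.mem_filter.mp hB).2
    rw [Finset.sum_congr rfl
      (g := fun _ => -((Nat.card (killed I B) : ℂ)) * ((mu B : ℂ) * (P B + P L))) (fun W hW => ?_),
      Finset.sum_const, hOff, Finset.filter_filter]
    · have he : (Finset.univ.filter fun W : Submodule R M => (W ≤ S ∧ ¬ W ≤ H) ∧ W ⊓ H = B) =
          offSet H S B := by
        ext W; simp [mem_offSet, and_assoc]
      have hc := count hS hL hdis hsup le_rfl hSH (B := B) (le_inf (hBH.trans hHS) hBH)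
      rw [inf_eq_right.mpr hHS] at hc
      rw [he, nsmul_eq_mul, ← hc, Nat.cast_mul]
      ring
    · obtain ⟨hW1, rfl⟩ := Finset.mem_filter.mp hW
      rw [hOff, Finset.mem_filter] at hW1
      rw [mu_off hS hL hdis hsup W hW1.2.1 hW1.2.2, hPU W hW1.2.1 hW1.2.2]
      push_cast
      ring
  rw [h2]
  have h3 : ∑ B ∈ Finset.univ.filter (fun B => B ≤ H), ((mu B : ℂ) * (P B + P L)) =
      hsum P H + (if H = ⊥ then 1 else 0) * P L := by
    simp only [mul_add, Finset.sum_add_distrib, ← Finset.sum_mul]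
    congr 1
    rw [← Int.cast_sum, sum_mu H _ (fun B => by simp)]
    split_ifs <;> simp
  rw [h3]
  show hsum P H + _ = _
  by_cases h : H = ⊥
  · subst h
    simp [killed_bot]
  · simp [h]
    ring

theorem hsum_mixed (hP : IsWeight P) (S : Submodule R M) : soc S = S →
    (∃ L L' : Submodule R M, IsAtom L ∧ IsAtom L' ∧ L ≤ S ∧ L' ≤ S ∧ L.annihilator ≠ L'.annihilator) →
      hsum P S = 0 := by
  classical
  induction S using (wellFounded_lt (α := Submodule R M)).induction with
  | _ S ih =>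
  rintro hS ⟨L, L', hL, hL', hLS, hL'S, hne⟩
  obtain ⟨H, hHS, hdis, hsup⟩ := exists_split hS hLS
  have hlt : H < S := lt_of_le_of_ne hHS fun h => hL.1 (le_bot_iff.mp
    (hdis.le_bot.trans' (le_inf (h ▸ hLS) le_rfl)))
  have hL'H : L' ≤ H := by
    by_contra hle
    obtain ⟨l0, hl0, hl0ne⟩ := exists_ne_zero_mem hL.1
    obtain ⟨x, hxH, hxW, hxk⟩ := exists_lift hS hL hsup hL'S hle hl0
    refine hne (ann_eq_of_killed hL hL' hxW ?_ fun r hr => ?_).symm
    · intro h
      refine hl0ne (Submodule.disjoint_def.mp hdis _ ?_ hl0)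
      rw [eq_neg_of_add_eq_zero_right h]
      exact H.neg_mem hxH
    · rw [smul_add, hxk r hr, Submodule.mem_annihilator.mp hr l0 hl0, add_zero]
  have hH0 : H ≠ ⊥ := fun h => hL'.1 (le_bot_iff.mp (h ▸ hL'H))
  rw [hsum_split hP hS hL hdis hsup, if_neg hH0, sub_zero]
  by_cases hk : killed L.annihilator H = ⊥
  · simp [hk]
  · obtain ⟨y, hy, hy0⟩ := exists_ne_zero_mem hk
    obtain ⟨hyH, hyk⟩ := mem_killed.mp hy
    obtain ⟨hat, hann⟩ := atom_span (ann_isMaximal hL) hy0 hyk
    rw [ih H hlt (soc_of_le hS hHS) ⟨_, L', hat, hL',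
      (Submodule.span_singleton_le_iff_mem y H).mpr hyH, hL'H, by rwa [hann]⟩, mul_zero]

theorem iso_formulas (hP : IsWeight P) {I : Ideal R} {Q : ℕ} {p0 : ℂ} (S : Submodule R M) :
    soc S = S → (∀ L : Submodule R M, IsAtom L → L ≤ S → L.annihilator = I ∧ P L = p0) →
    (∀ L : Submodule R M, IsAtom L → L ≤ S → Nat.card L = Q) →
    ∃ k : ℕ, Nat.card S = Q ^ k ∧ (k = 0 → S = ⊥) ∧
      mu S = (-1) ^ k * (Q : ℤ) ^ k.choose 2 ∧ P S = k * p0 ∧
      (k ≠ 0 → hsum P S = -p0 * ∏ i ∈ Finset.Ico 1 k, (1 - (Q : ℂ) ^ i)) := by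
  classical
  induction S using (wellFounded_lt (α := Submodule R M)).induction with
  | _ S ih =>
  intro hS hI hQ
  by_cases hS0 : S = ⊥
  · subst hS0
    exact ⟨0, by simp, fun _ => rfl, by simp [mu_bot], by simp [hP.bot], fun h => absurd rfl h⟩
  obtain ⟨L, hL, hLS⟩ := (IsAtomic.eq_bot_or_exists_atom_le S).resolve_left hS0
  obtain ⟨H, hHS, hdis, hsup⟩ := exists_split hS hLS
  have hSH : ¬ S ≤ H := fun h => hL.1 (le_bot_iff.mp
    (hdis.le_bot.trans' (le_inf (hLS.trans h) le_rfl)))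
  have hHsoc := soc_of_le hS hHS
  obtain ⟨k, hk1, hk0, hk2, hk3, hk4⟩ := ih H (lt_of_le_not_ge hHS hSH) hHsoc
    (fun A hA hAH => hI A hA (hAH.trans hHS)) (fun A hA hAH => hQ A hA (hAH.trans hHS))
  obtain ⟨hIL, hPL⟩ := hI L hL hLS
  have hkill : killed L.annihilator H = H := by
    refine le_antisymm inf_le_left ?_
    conv_lhs => rw [← hHsoc]
    refine sSup_le fun A hA x hx => mem_killed.mpr ⟨hA.2 hx, fun r hr => ?_⟩
    rw [hIL, ← (hI A hA.1 (hA.2.trans hHS)).1] at hr
    exact Submodule.mem_annihilator.mp hr x hx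
  refine ⟨k + 1, ?_, fun h => absurd h k.succ_ne_zero, ?_, ?_, fun _ => ?_⟩
  · rw [card_mul_card hdis hsup, hk1, hQ L hL hLS, pow_succ]
  · rw [mu_off hS hL hdis hsup S le_rfl hSH, inf_eq_right.mpr hHS, hkill, hk1, hk2,
      show (k + 1).choose 2 = k + k.choose 2 by rw [Nat.choose_succ_succ', Nat.choose_one_right]]
    push_cast
    ring
  · conv_lhs => rw [← hsup]
    rw [hP.sup H L hHsoc hL hdis, hk3, hPL]
    push_cast
    ring
  · rw [hsum_split hP hS hL hdis hsup, hkill, hk1]
    rcases Nat.eq_zero_or_pos k with rfl | hk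
    · simp [hk0 rfl, hPL]
    · have hH0 : H ≠ ⊥ := by
        intro h
        have h1 : P H = 0 := by rw [h, hP.bot]
        rw [h] at hk1
        simp only [Nat.card_of_subsingleton (0 : (⊥ : Submodule R M))] at hk1
        have hQ1 : 1 < Q := by
          rw [← hQ L hL hLS, Finite.one_lt_card_iff_nontrivial]
          exact (Submodule.nontrivial_iff_ne_bot).mpr hL.1
        exact absurd hk1.symm (Nat.one_lt_pow hk.ne' hQ1).ne'
      rw [if_neg hH0, sub_zero, hk4 hk.ne', Finset.prod_Ico_succ_top hk]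
      push_cast
      ring

end CfsgLib.Cuspidal
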